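import Cfsg.Agent.H51.U62.Upper

/-!
The kernel of a stem extension of `SU 6 2` has exponent two and at most four elements.
-/

set_option autoImplicit false

namespace H51.U62

open Matrix Cfsg H50 H50.CExt H50.PointStab H50.RadFrame H50.RadLift H50.RadSplit
open scoped commutatorElement

universe u

variable {F : Type u} [Field F] [Fintype F] (hF : Fintype.card F = 2 ^ 2)
include hF

/-- No stem extension of `SU 6 2` has a non-trivial kernel of odd order. -/
theorem ker_eq_bot_of_odd {Γ : Type u} [Group Γ] [Finite Γ] (σ : Γ →* SU 6 F 2)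
    (hσ : IsStemExtension σ) (hcop : ¬ 2 ∣ Nat.card σ.ker) : σ.ker = ⊥ := by
  obtain ⟨hs, hc, hd⟩ := hσ
  haveI : Fact (Nat.Prime 2) := ⟨Nat.prime_two⟩
  haveI : CharP F 2 := (CharP.charP_iff_prime_eq_zero Nat.prime_two).2 (by
    have := add_self_zero hF (1 : F)
    push_cast
    linear_combination this)
  haveI : Finite (SU 6 F 2) := Finite.of_surjective σ hs
  have hsplit := SCFour.scp_all (p := 2) hF 6 (by norm_num) Γ σ hs hc hcop
  have hcomm : commutator Γ ≤ liftGrp 2 σ ⊤ := by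
    rw [commutator_def, Subgroup.commutator_le]
    intro a _ b _
    obtain ⟨m, hm, x, hx, rfl⟩ := exists_mul_ker 2 σ hc hcop hs (pGen_SU hF 6).1 a
    obtain ⟨m', hm', y, hy, rfl⟩ := exists_mul_ker 2 σ hc hcop hs (pGen_SU hF 6).1 b
    have hxy : ∀ w ∈ σ.ker, σ w = 1 := fun w h => h
    rw [H76.Cover.comm_congr σ hc (x' := m) (y' := m') (by rw [map_mul, hxy x hx, mul_one])
      (by rw [map_mul, hxy y hy, mul_one]), commutatorElement_def]
    exact mul_mem (mul_mem (mul_mem hm hm') (inv_mem hm)) (inv_mem hm')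
  exact eq_bot_iff.2 fun z hz => hsplit.le ⟨hcomm (hd hz), hz⟩

variable {Γ : Type u} [Group Γ] [Finite Γ] (σ : Γ →* SU 6 F 2) (hσ : IsStemExtension σ)
include hσ

/-- The kernel is a two-group. -/
theorem ker_two_power {z : Γ} (hz : σ z = 1) : ∃ j : ℕ, z ^ 2 ^ j = 1 := by
  obtain ⟨hs, hc, hd⟩ := hσ
  let K : Subgroup Γ :=
    { carrier := {w | σ w = 1 ∧ ∃ j : ℕ, w ^ 2 ^ j = 1}
      mul_mem' := by
        rintro a b ⟨ha, i, hi⟩ ⟨hb, j, hj⟩
        refine ⟨by rw [map_mul, ha, hb, mul_one], i + j, ?_⟩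
        rw [Commute.mul_pow (central σ hc hb a), pow_add, pow_mul, hi, one_pow, one_mul,
          mul_comm, pow_mul, hj, one_pow]
      one_mem' := ⟨map_one σ, 0, one_pow _⟩
      inv_mem' := by
        rintro a ⟨ha, i, hi⟩
        exact ⟨by rw [map_inv, ha, inv_one], i, by rw [inv_pow, hi, inv_one]⟩ }
  haveI : K.Normal := ⟨fun w hw g => by rw [central σ hc hw.1 g, mul_inv_cancel_right]; exact hw⟩
  let π := QuotientGroup.mk' K
  let τ : Γ ⧸ K →* SU 6 F 2 := QuotientGroup.lift K σ fun w hw => hw.1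
  have hπ : Function.Surjective π := QuotientGroup.mk'_surjective K
  have hτs : Function.Surjective τ := fun b => by
    obtain ⟨a, rfl⟩ := hs b
    exact ⟨π a, rfl⟩
  have hτ : IsStemExtension τ := by
    refine ⟨hτs, fun w hw => ?_, fun w hw => ?_⟩
    · obtain ⟨a, rfl⟩ := hπ w
      refine Subgroup.mem_center_iff.2 fun v => ?_
      obtain ⟨b, rfl⟩ := hπ v
      rw [← map_mul, ← map_mul, central σ hc hw b]
    · obtain ⟨a, rfl⟩ := hπ w
      have h1 : π a ∈ (commutator Γ).map π := ⟨a, hd hw, rfl⟩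
      rw [map_commutator_eq, MonoidHom.range_eq_top.2 hπ, ← commutator_def] at h1
      exact h1
  have hcop : ¬ 2 ∣ Nat.card τ.ker := by
    intro h
    haveI : Fact (Nat.Prime 2) := ⟨Nat.prime_two⟩
    obtain ⟨⟨w, hw⟩, hord⟩ := exists_prime_orderOf_dvd_card' 2 h
    rw [Subgroup.orderOf_mk] at hord
    obtain ⟨a, rfl⟩ := hπ w
    have h2 : π (a ^ 2) = 1 := by rw [map_pow, ← hord]; exact pow_orderOf_eq_one _
    obtain ⟨-, j, hj⟩ := (QuotientGroup.eq_one_iff _).1 h2
    have ha : π a = 1 := (QuotientGroup.eq_one_iff _).2 ⟨hw, j + 1, by rw [pow_succ', pow_mul, hj]⟩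
    rw [ha, orderOf_one] at hord
    exact absurd hord (by norm_num)
  have h1 : π z ∈ τ.ker := hz
  rw [ker_eq_bot_of_odd hF τ hτ hcop, Subgroup.mem_bot] at h1
  exact ((QuotientGroup.eq_one_iff _).1 h1).2

/-- The kernel embeds in the defect. -/
theorem exists_embed {C : Cfg F} (T : Lifts C σ) :
    ∃ f : σ.ker →* Ysub hF T, Function.Injective f := by
  obtain ⟨hs, hc, hd⟩ := hσ
  have hσ' : IsStemExtension σ := ⟨hs, hc, hd⟩
  let f : σ.ker →* Ysub hF T :=
    (Abelianization.of.comp (Subgroup.inclusion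
      (fun z hz => ker_le_Qh (C := C) hz : σ.ker ≤ Qh σ C.x))).codRestrict _ fun z => by
        obtain ⟨j, hj⟩ := ker_two_power hF σ hσ' z.2
        exact of_mem_Ysub hF T hs hc (hd z.2) z.2 hj
  refine ⟨f, (injective_iff_map_eq_one f).2 fun z hz => Subtype.ext ?_⟩
  exact of_ker_eq_one hF hs hc (C := C) z.2 (congrArg Subtype.val hz)

/-- The kernel of a stem extension has exponent two and at most four elements. -/
theorem ker_bound : (∀ z : Γ, σ z = 1 → z ^ 2 = 1) ∧ Nat.card σ.ker ≤ 4 := by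
  obtain ⟨C⟩ := exists_cfg hF
  obtain ⟨T⟩ := exists_lifts hF C σ hσ.1
  obtain ⟨f, hf⟩ := exists_embed hF σ hσ T
  refine ⟨fun z hz => ?_, ?_⟩
  · obtain ⟨c, hc', he⟩ := (f ⟨z, hz⟩).2
    have h1 : (f ⟨z, hz⟩ : Ysub hF T) ^ 2 = 1 := Subtype.ext (by
      rw [Subgroup.coe_pow, ← he, ← map_pow, sq_Lsub hF T hσ.1 hσ.2.1 hc', map_one]; rfl)
    have h2 : (⟨z, hz⟩ : σ.ker) ^ 2 = 1 := hf (by rw [map_pow, h1, map_one])
    exact congrArg Subtype.val h2
  · refine (Nat.card_le_card_of_injective f hf).trans ?_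
    refine (Nat.card_le_card_of_surjective _
      ((psi σ T.k0).subgroupMap_surjective (Lsub hF T))).trans ?_
    exact card_Lsub_le hF T hσ.1 hσ.2.1

end H51.U62
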