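import Cfsg.Agent.H51.U62.Gen
import Cfsg.Agent.H50.SUMultiplier
import Cfsg.Agent.H50.RadFamily

/-!
The configuration for the multiplier of `PSU 6 2`: an isotropic point with stabiliser of odd index,
a frame, and generators of the stabiliser of a hyperbolic pair; splitting over that stabiliser.
-/

set_option autoImplicit false

namespace H51.U62

open Matrix Cfsg H50 H50.PointStab H50.RadFrame
open scoped commutatorElement

universe u

variable {F : Type u} [Field F] [Fintype F]

/-- The data. -/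
structure Cfg (F : Type u) [Field F] [Fintype F] where
  /-- the point -/
  x : Fin 6 → F
  /-- its partner -/
  y : Fin 6 → F
  /-- the frame -/
  e : Fin 4 → Fin 6 → F
  /-- a cube root of unity -/
  ω : F
  hyp : IsHyp 2 x y
  frame : IsFrame 2 x y e
  omega : ω ^ 3 = 1
  omega_ne : ω ≠ 1
  idx : ¬ 2 ∣ (stab (q := 2) x).index
  /-- the extra generator -/
  G0 : SU 6 F 2
  G0_mem : G0 ∈ stab2 x y
  G0_fix : suMat G0 *ᵥ e 0 = e 0
  gen : ∀ H : Subgroup (SU 6 F 2), G0 ∈ H →
    (∀ g ∈ stab2 (q := 2) x y,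
      (∀ j, ∃ i, ∃ c : F, c ^ 3 = 1 ∧ suMat g *ᵥ e j = c • e i) → g ∈ H) → stab2 x y ≤ H

variable (hF : Fintype.card F = 2 ^ 2)
include hF

theorem exists_cfg : Nonempty (Cfg F) := by
  haveI : Fact (Nat.Prime 2) := ⟨Nat.prime_two⟩
  haveI : CharP F 2 := (CharP.charP_iff_prime_eq_zero Nat.prime_two).2 (by
    have := add_self_zero hF (1 : F)
    push_cast
    linear_combination this)
  haveI : Finite (SU 6 F 2) := Finite.of_injective (fun g => suMat g) fun a b h => SU_ext h
  obtain ⟨P⟩ := (inferInstance : Nonempty (Sylow 2 (SU 6 F 2)))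
  obtain ⟨x, hx0, hx, hPx⟩ := PPart.exists_fixed_isotropic hF (by norm_num) P.isPGroup'
  obtain ⟨y, h⟩ := exists_hyp_partner hF hx0 hx
  obtain ⟨ω, hω, hω1, hω2⟩ := exists_omega hF
  obtain ⟨ι, j, -, hι, hj, hjh, hιj, hjs⟩ := exists_pair_hom hF (m := 4) (by norm_num) h
  obtain ⟨g0, hg0⟩ := exists_mix hF hω2
  refine ⟨{ x := x, y := y, e := fun i => j (Pi.single i 1), ω := ω, hyp := h,
            frame := ⟨rfl, fun a b => ?_, fun i => PPart.pair_image hF h hjs _⟩,
            omega := hω, omega_ne := hω1,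
            idx := fun hd => P.not_dvd_index (hd.trans (Subgroup.index_dvd_of_le hPx)),
            G0 := ι g0, G0_mem := hι ▸ ⟨g0, rfl⟩, G0_fix := ?_, gen := fun H hG hmon => ?_ }⟩
  · rw [hjh, h_single_single hF]
  · show suMat (ι g0) *ᵥ j (Pi.single 0 1) = j (Pi.single 0 1)
    rw [hιj, hg0]
    congr 1
    funext i
    fin_cases i <;> simp [mixMat]
  · have htop : H.comap ι = ⊤ := closure_mon_mix hF hω2 _ (fun g hg => by
      refine hmon (ι g) (hι ▸ ⟨g, rfl⟩) fun k => ?_
      obtain ⟨i, c, hc, hgk⟩ := hg k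
      refine ⟨i, c, hc, ?_⟩
      show suMat (ι g) *ᵥ j (Pi.single k 1) = c • j (Pi.single i 1)
      rw [hιj, hgk, map_smul]) fun g hg => by
      rw [show g = g0 from SU_ext (hg.trans hg0.symm)]
      exact hG
    intro g hg
    rw [← hι] at hg
    obtain ⟨g', rfl⟩ := hg
    have : g' ∈ H.comap ι := by rw [htop]; trivial
    exact this

/-- The derived group of the lift of the stabiliser of a hyperbolic pair misses the kernel. -/
theorem stab2_comm_disjoint {Γ : Type u} [Group Γ] [Finite Γ] (σ : Γ →* SU 6 F 2)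
    (hs : Function.Surjective σ) (hc : σ.ker ≤ Subgroup.center Γ) {x y : Fin 6 → F}
    (h : IsHyp 2 x y) {w : Γ}
    (hw : w ∈ ⁅(stab2 (q := 2) x y).comap σ, (stab2 (q := 2) x y).comap σ⁆) (hk : σ w = 1) :
    w = 1 := by
  obtain ⟨ω, hω, -, hω2⟩ := exists_omega hF
  set w0 := x + ω • y with hw0
  have hz := add_self_zero hF (1 : F)
  have hw1 : hermForm 6 F 2 w0 w0 = 1 := by
    simp only [hw0, h_add_left, h_add_right hF, h_smul_left, h_smul_right hF, h.1, h.2.1, h.2.2,
      (h.symm hF).2.2]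
    linear_combination hω2 - hz
  have hb : IsON 2 (fun _ : Fin 1 => (Pi.single 0 1 : Fin 6 → F)) := fun a b => by
    rw [Subsingleton.elim b a, if_pos rfl, h_single_single hF, if_pos rfl]
  obtain ⟨k, hk0⟩ := exists_SU_of_sameGram hF (IsON.gramND hF hb)
    (b' := fun _ : Fin 1 => w0) (fun a b => by
      rw [h_single_single hF, if_pos rfl, hw1]) (by norm_num)
  have hk1 : suMat k *ᵥ Pi.single 0 1 = w0 := hk0 0
  let f : SU 5 F 2 →* SU 6 F 2 := (MulAut.conj k).toMonoidHom.comp (liftSU (n := 5))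
  have hf : Function.Injective f := (MulAut.conj k).injective.comp liftSU_injective
  have hrange : stab2 (q := 2) x y ≤ f.range := by
    intro g hg
    obtain ⟨hgx, hgy⟩ := mem_stab2.1 hg
    obtain ⟨g', hg'⟩ := mem_range_liftSU hF (g := k⁻¹ * g * k) (by
      rw [suMat_mulVec_mul, suMat_mulVec_mul, hk1,
        show suMat g *ᵥ w0 = w0 by rw [hw0, mulVec_add, mulVec_smul, hgx, hgy], ← hk1,
        suMat_inv_mulVec])
    refine ⟨g', ?_⟩
    show k * liftSU g' * k⁻¹ = g
    rw [hg']; group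
  let e := MonoidHom.ofInjective hf
  let τ : f.range.comap σ →* SU 5 F 2 :=
    e.symm.toMonoidHom.comp ((σ.comp (f.range.comap σ).subtype).codRestrict f.range fun a => a.2)
  have hτ : ∀ a, f (τ a) = σ a := fun a => congrArg Subtype.val (e.apply_symm_apply _)
  have hτs : Function.Surjective τ := fun b => by
    obtain ⟨g, hg⟩ := hs (f b)
    exact ⟨⟨g, ⟨b, hg.symm⟩⟩, hf ((hτ _).trans hg)⟩
  have hτc : τ.ker ≤ Subgroup.center _ := fun a ha => Subgroup.mem_center_iff.2 fun b =>
    Subtype.ext (RadLift.central σ hc (by rw [← hτ, show τ a = 1 from ha, map_one]) b)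
  obtain ⟨s, hsec⟩ := H76.Cover.splits_of_stem (S := SU 5 F 2)
    (SU_perfect hF (n := 5) (by norm_num) (by norm_num))
    (fun Γ' _ _ σ' hσ' => SUMult.stem_ker_eq_bot hF (n := 5) (by norm_num) (by norm_num)
      (by simp) σ' hσ') _ τ hτs hτc
  obtain ⟨v, hv, rfl⟩ : ∃ v : f.range.comap σ, v ∈ commutator _ ∧ (v : Γ) = w := by
    have h1 := Subgroup.commutator_mono (Subgroup.comap_mono (f := σ) hrange)
      (Subgroup.comap_mono (f := σ) hrange) hw
    rw [← Subgroup.map_subtype_commutator] at h1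
    obtain ⟨v, hv, hvw⟩ := h1
    exact ⟨v, hv, hvw⟩
  have hle : commutator (f.range.comap σ) ≤ s.range := by
    rw [commutator_def, Subgroup.commutator_le]
    intro a _ b _
    rw [H76.Cover.comm_congr τ hτc (x' := s (τ a)) (y' := s (τ b)) (hsec _).symm (hsec _).symm,
      ← map_commutatorElement]
    exact ⟨_, rfl⟩
  obtain ⟨b, hb'⟩ := hle hv
  have hv1 : τ v = 1 := hf (by rw [hτ, hk, map_one])
  rw [← hb', show b = 1 by rw [← hsec b, hb', hv1], map_one]
  rfl

end H51.U62
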