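import Cfsg.Agent.H51.U62.Twist
import Cfsg.Agent.H64.SUTransport
import Cfsg.Agent.H96.Fi22U6

/-!
The Schur multiplier of `PSU 6 2`.
-/

set_option autoImplicit false

namespace H51.U62

open Matrix Cfsg H50
open scoped commutatorElement

universe u

variable {F : Type u} [Field F] [Fintype F] (hF : Fintype.card F = 2 ^ 2)
include hF

/-- A non-split central extension of `PSU 6 2` with kernel of order two gives a stem extension of
`SU 6 2` with kernel of order two. -/
theorem exists_stem_two {A : Type} [Group A] [Finite A] (π : A →* PSU 6 F 2)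
    (hπs : Function.Surjective π) (hπc : π.ker ≤ Subgroup.center A) (hA : Nat.card π.ker = 2)
    (hns : ∀ s : PSU 6 F 2 →* A, ∃ x, π (s x) ≠ x) :
    ∃ (Γ : Type u) (_ : Group Γ) (_ : Finite Γ) (σ : Γ →* SU 6 F 2),
      IsStemExtension σ ∧ Nat.card σ.ker = 2 := by
  haveI : Finite (SU 6 F 2) := Finite.of_injective (fun g => suMat g) fun a b h => SU_ext h
  let mk := QuotientGroup.mk' (Subgroup.center (SU 6 F 2))
  let P : Subgroup (A × SU 6 F 2) :=
    (π.comp (MonoidHom.fst A (SU 6 F 2))).eqLocus (mk.comp (MonoidHom.snd A (SU 6 F 2)))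
  let τ0 : P →* SU 6 F 2 := (MonoidHom.snd A (SU 6 F 2)).comp P.subtype
  have hs0 : Function.Surjective τ0 := fun b => by
    obtain ⟨a, ha⟩ := hπs (mk b)
    exact ⟨⟨(a, b), ha⟩, rfl⟩
  have hc0 : τ0.ker ≤ Subgroup.center P := by
    rintro ⟨⟨a, b⟩, hab⟩ hb
    have hb' : b = 1 := hb
    have ha' : a ∈ Subgroup.center A := hπc (by
      show π a = 1
      rw [show π a = mk b from hab, hb', map_one])
    exact Subgroup.mem_center_iff.2 fun g => Subtype.ext (Prod.ext
      (Subgroup.mem_center_iff.1 ha' _) (by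
        show (g : A × SU 6 F 2).2 * b = b * (g : A × SU 6 F 2).2
        rw [hb', mul_one, one_mul]))
  have hstem := stem_commutator τ0 hs0 hc0 (SU_perfect hF (n := 6) (by norm_num) (by norm_num))
  let τ : ↥(commutator P) →* SU 6 F 2 := τ0.comp (commutator P).subtype
  change IsStemExtension τ at hstem
  refine ⟨↥(commutator P), inferInstance, inferInstance, τ, hstem, ?_⟩
  let p : ↥(commutator P) →* A :=
    ((MonoidHom.fst A (SU 6 F 2)).comp P.subtype).comp (commutator P).subtype
  have hp : ∀ g, π (p g) = mk (τ g) := fun g => g.1.2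
  let f : τ.ker →* π.ker := (p.comp τ.ker.subtype).codRestrict _ fun g => by
    show π (p g) = 1
    rw [hp, show τ g = 1 from g.2, map_one]
  have hfi : Function.Injective f := fun a b hab => Subtype.ext (Subtype.ext (Subtype.ext
    (Prod.ext (congrArg Subtype.val hab) ((show τ a = 1 from a.2).trans (show τ b = 1 from b.2).symm))))
  have hle := Nat.card_le_card_of_injective f hfi
  rw [hA] at hle
  have hne : Nat.card τ.ker ≠ 1 := by
    intro h1
    have hinj : Function.Injective τ := (MonoidHom.ker_eq_bot_iff τ).1 (Subgroup.card_eq_one.1 h1)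
    let e := MulEquiv.ofBijective τ ⟨hinj, hstem.1⟩
    let φ : SU 6 F 2 →* A := p.comp e.symm.toMonoidHom
    have hφ : ∀ x, π (φ x) = mk x := fun x => (hp _).trans (congrArg mk (e.apply_symm_apply x))
    have hφc : Subgroup.center (SU 6 F 2) ≤ φ.ker := by
      intro g hg
      have h3 : g ^ 3 = 1 := by
        have h := pow_card_eq_one' (G := Subgroup.center (SU 6 F 2)) (x := ⟨g, hg⟩)
        rw [card_center_SU hF (by norm_num)] at h
        exact congrArg Subtype.val h
      have hk : φ g ∈ π.ker := by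
        show π (φ g) = 1
        rw [hφ]; exact (QuotientGroup.eq_one_iff _).2 hg
      have h2 : (φ g) ^ 2 = 1 := by
        have h := pow_card_eq_one' (G := π.ker) (x := ⟨φ g, hk⟩)
        rw [hA] at h
        exact congrArg Subtype.val h
      have h4 : (φ g) ^ 3 = 1 := by rw [← map_pow, h3, map_one]
      rw [MonoidHom.mem_ker]
      rwa [pow_succ, h2, one_mul] at h4
    obtain ⟨x, hx⟩ := hns (QuotientGroup.lift _ φ hφc)
    obtain ⟨x, rfl⟩ := QuotientGroup.mk'_surjective (Subgroup.center (SU 6 F 2)) x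
    exact hx (hφ x)
  have h0 : Nat.card τ.ker ≠ 0 := Nat.card_ne_zero.2 ⟨inferInstance, inferInstance⟩
  omega

/-- `PSU 6 2` has a non-split double cover. -/
theorem exists_double_cover : ∃ (A : Type) (_ : Group A) (_ : Finite A) (π : A →* PSU 6 F 2),
    Function.Surjective π ∧ π.ker ≤ Subgroup.center A ∧ Nat.card π.ker = 2 ∧
      ∀ s : PSU 6 F 2 →* A, ∃ x, π (s x) ≠ x := by
  obtain ⟨hc2, ⟨e⟩, hns⟩ := H96.Fi22U6.main
  haveI := H96.Fi22O7.finite_G
  let ψ : H35.G24.K4 ≃+* F :=
    FiniteField.ringEquivOfCardEq (by rw [H35.G24.K4.card_eq, hF]; norm_num)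
  let eS := H64.suCongr 6 2 ψ
  have hmap : (Subgroup.center (SU 6 H35.G24.K4 2)).map eS.toMonoidHom =
      Subgroup.center (SU 6 F 2) := by
    ext x
    rw [Subgroup.mem_map, Subgroup.mem_center_iff]
    constructor
    · rintro ⟨z, hz, rfl⟩ g
      obtain ⟨g', rfl⟩ := eS.surjective g
      show eS g' * eS z = eS z * eS g'
      rw [← map_mul, ← map_mul, Subgroup.mem_center_iff.1 hz g']
    · intro hx
      obtain ⟨z, rfl⟩ := eS.surjective x
      refine ⟨z, Subgroup.mem_center_iff.2 fun g' => eS.injective ?_, rfl⟩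
      rw [map_mul, map_mul]; exact hx _
  let eP := QuotientGroup.congr _ (Subgroup.center (SU 6 F 2)) eS hmap
  let π : H96.Fi22O7.A →* PSU 6 F 2 :=
    (e.trans eP).toMonoidHom.comp (QuotientGroup.mk' (Subgroup.center H96.Fi22O7.A))
  have hker : π.ker = Subgroup.center H96.Fi22O7.A := by
    ext a
    show (e.trans eP) ((QuotientGroup.mk' (Subgroup.center H96.Fi22O7.A)) a) = 1 ↔ _
    rw [MulEquiv.map_eq_one_iff]
    exact QuotientGroup.eq_one_iff a
  refine ⟨H96.Fi22O7.A, inferInstance, inferInstance, π, ?_, hker.le, by rw [hker]; exact hc2, ?_⟩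
  · exact (e.trans eP).surjective.comp (QuotientGroup.mk'_surjective _)
  · intro s
    by_contra hall
    push Not at hall
    refine hns s.range (Subgroup.isComplement'_of_disjoint_and_mul_eq_univ ?_ ?_)
    · rw [Subgroup.disjoint_def]
      rintro a ha ⟨x, rfl⟩
      rw [← hker] at ha
      rw [show x = 1 by rw [← hall x]; exact ha, map_one]
    · refine Set.eq_univ_of_forall fun a => ⟨a * (s (π a))⁻¹, ?_, s (π a), ⟨_, rfl⟩, ?_⟩
      · rw [SetLike.mem_coe, ← hker, MonoidHom.mem_ker, map_mul, map_inv, hall, mul_inv_cancel]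
      · exact inv_mul_cancel_right a _

/-- The Schur multiplier of `PSU 6 2`. -/
theorem multiplier_psu62 :
    Cfsg.HasSchurMultiplier (PSU 6 F 2) (Multiplicative (ZMod 3 × ZMod 2 × ZMod 2)) := by
  haveI : Fact (Nat.Prime 2) := ⟨Nat.prime_two⟩
  haveI : Fact (Nat.Prime 3) := ⟨Nat.prime_three⟩
  haveI : Finite (SU 6 F 2) := Finite.of_injective (fun g => suMat g) fun a b h => SU_ext h
  obtain ⟨A, _, _, π, hπs, hπc, hA, hns⟩ := exists_double_cover hF
  obtain ⟨Γ, _, _, σ, hσ, hcard⟩ := exists_stem_two hF π hπs hπc hA hns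
  obtain ⟨S, _, _, τ, hτ, h4⟩ := exists_four hF σ hσ hcard
  have hSU := SU_perfect hF (n := 6) (by norm_num) (by norm_num)
  have hperf := perfect_of_stem τ hτ hSU
  let mk := QuotientGroup.mk' (Subgroup.center (SU 6 F 2))
  let ρ : S →* PSU 6 F 2 := mk.comp τ
  -- perfect central extensions compose
  have hgrun : ∀ {E : Type u} [Group E], commutator E = ⊤ → ∀ {T : Type u} [Group T] (f : E →* T),
      Function.Surjective f → f.ker ≤ Subgroup.center E → ∀ z, f z ∈ Subgroup.center T →
      z ∈ Subgroup.center E := by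
    intro E _ hE T _ f hfs hfc z hz
    have hk : ∀ g, ⁅g, z⁆ ∈ f.ker := fun g => by
      rw [MonoidHom.mem_ker, map_commutatorElement, commutatorElement_eq_one_iff_mul_comm]
      exact Subgroup.mem_center_iff.1 hz _
    let χ : E →* f.ker := MonoidHom.mk' (fun g => ⟨⁅g, z⁆, hk g⟩) fun a b => Subtype.ext (by
      show ⁅a * b, z⁆ = ⁅a, z⁆ * ⁅b, z⁆
      have hcb := Subgroup.mem_center_iff.1 (hfc (hk b))
      rw [commutatorElement_mul_left_eq_conj_mul, hcb a, mul_inv_cancel_right, hcb])
    have hab : ∀ a b : f.ker, a * b = b * a :=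
      fun a b => Subtype.ext (Subgroup.mem_center_iff.1 (hfc b.2) a.1)
    have h1 : commutator E ≤ χ.ker := by
      rw [commutator_def, Subgroup.commutator_le]
      intro a _ b _
      rw [MonoidHom.mem_ker, map_commutatorElement, commutatorElement_eq_one_iff_mul_comm]
      exact hab _ _
    refine Subgroup.mem_center_iff.2 fun g => ?_
    have h2 : χ g = 1 := h1 (hE ▸ Subgroup.mem_top g)
    exact commutatorElement_eq_one_iff_mul_comm.1 (congrArg Subtype.val h2)
  have hρ : IsStemExtension ρ := ⟨(QuotientGroup.mk'_surjective _).comp hτ.1,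
    fun z hz => hgrun hperf τ hτ.1 hτ.2.1 z ((QuotientGroup.eq_one_iff _).1 hz),
    fun z _ => hperf ▸ Subgroup.mem_top z⟩
  have hsplit : H76.Cover.Splits S := H76.Cover.splits_of_stem hperf fun E _ _ f hf => by
    have hE := perfect_of_stem f hf hperf
    have hcomp : IsStemExtension (τ.comp f) := ⟨hτ.1.comp hf.1,
      fun z hz => hgrun hE f hf.1 hf.2.1 z (hτ.2.1 hz), fun z _ => hE ▸ Subgroup.mem_top z⟩
    have hle := (ker_bound hF _ hcomp).2
    let r : (τ.comp f).ker →* τ.ker := (f.comp (τ.comp f).ker.subtype).codRestrict _ fun z => z.2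
    have hrs : Function.Surjective r := fun w => by
      obtain ⟨z, hz⟩ := hf.1 w.1
      exact ⟨⟨z, show τ (f z) = 1 from hz.symm ▸ w.2⟩, Subtype.ext hz⟩
    have h1 := Subgroup.card_mul_index r.ker
    rw [Subgroup.index_ker, MonoidHom.range_eq_top.2 hrs, Subgroup.card_top, h4] at h1
    have hr1 : Nat.card r.ker = 1 := by
      have := Nat.card_pos (α := r.ker)
      nlinarith
    rw [eq_bot_iff]
    intro z hz
    have hzk : z ∈ (τ.comp f).ker := by
      show τ (f z) = 1
      rw [show f z = 1 from hz, map_one]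
    have : (⟨z, hzk⟩ : (τ.comp f).ker) ∈ r.ker := Subtype.ext hz
    rw [Subgroup.card_eq_one.1 hr1, Subgroup.mem_bot] at this
    exact congrArg Subtype.val this
  -- the kernel
  have hexp := (ker_bound hF τ hτ).1
  let res : ρ.ker →* Subgroup.center (SU 6 F 2) :=
    (τ.comp ρ.ker.subtype).codRestrict _ fun z => (QuotientGroup.eq_one_iff _).1 z.2
  have hress : Function.Surjective res := fun w => by
    obtain ⟨z, hz⟩ := hτ.1 w.1
    exact ⟨⟨z, show mk (τ z) = 1 from hz.symm ▸ (QuotientGroup.eq_one_iff _).2 w.2⟩, Subtype.ext hz⟩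
  have hcard12 : Nat.card ρ.ker = 12 := by
    have h1 := Subgroup.card_mul_index res.ker
    rw [Subgroup.index_ker, MonoidHom.range_eq_top.2 hress, Subgroup.card_top,
      card_center_SU hF (by norm_num)] at h1
    have h2 : Nat.card res.ker = Nat.card τ.ker := by
      refine Nat.card_congr ⟨fun z => ⟨z.1.1, congrArg Subtype.val z.2⟩,
        fun z => ⟨⟨z.1, show mk (τ z.1) = 1 by rw [show τ z.1 = 1 from z.2, map_one]⟩,
          Subtype.ext z.2⟩, fun z => rfl, fun z => rfl⟩
    rw [h2, h4] at h1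
    norm_num at h1
    exact h1.symm
  letI : CommGroup ρ.ker :=
    { (inferInstance : Group ρ.ker) with
      mul_comm := fun a b => Subtype.ext (Subgroup.mem_center_iff.1 (hρ.2.1 b.2) a.1) }
  -- an element of order three and two independent involutions
  obtain ⟨c, hc⟩ := exists_prime_orderOf_dvd_card' (G := ρ.ker) 3 (by rw [hcard12]; norm_num)
  have hin : ∀ z : τ.ker, (z : S) ∈ ρ.ker := fun z => by
    show mk (τ z) = 1
    rw [show τ z = 1 from z.2, map_one]
  obtain ⟨a, ha⟩ : ∃ a : τ.ker, a ≠ 1 := by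
    by_contra h
    push Not at h
    haveI : Subsingleton τ.ker := ⟨fun u v => (h u).trans (h v).symm⟩
    rw [Nat.card_unique] at h4
    omega
  obtain ⟨b, hb1, hba⟩ : ∃ b : τ.ker, b ≠ 1 ∧ b ≠ a := by
    classical
    by_contra h
    push Not at h
    have : (Set.univ : Set τ.ker) ⊆ {1, a} := fun z _ => by
      by_cases hz : z = 1
      · simp [hz]
      · simp [h z hz]
    have h5 := (Set.ncard_le_ncard this (Set.toFinite _)).trans
      ((Set.ncard_insert_le _ _).trans (by rw [Set.ncard_singleton]))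
    rw [Set.ncard_univ, h4] at h5
    omega
  let A' : ρ.ker := ⟨a.1, hin a⟩
  let B' : ρ.ker := ⟨b.1, hin b⟩
  have hA2 : A' ^ 2 = 1 := Subtype.ext (hexp _ a.2)
  have hB2 : B' ^ 2 = 1 := Subtype.ext (hexp _ b.2)
  have hC3 : c ^ 3 = 1 := hc ▸ pow_orderOf_eq_one c
  let hom : ∀ (n : ℕ) (g : ρ.ker), g ^ n = 1 → (ZMod n →+ Additive ρ.ker) := fun n g hg =>
    ZMod.lift n ⟨zmultiplesHom _ (Additive.ofMul g), by
      rw [zmultiplesHom_apply, ← ofMul_zpow, zpow_natCast, hg, ofMul_one]⟩
  let φ : Multiplicative (ZMod 3 × ZMod 2 × ZMod 2) →* ρ.ker :=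
    AddMonoidHom.toMultiplicativeLeft ((hom 3 c hC3).coprod ((hom 2 A' hA2).coprod (hom 2 B' hB2)))
  have hv : ∀ i j k : ℤ, φ (Multiplicative.ofAdd ((i : ZMod 3), (j : ZMod 2), (k : ZMod 2))) =
      c ^ i * (A' ^ j * B' ^ k) := by
    intro i j k
    simp [φ, hom]
  have hinj : Function.Injective φ := by
    refine (injective_iff_map_eq_one φ).2 fun x hx => ?_
    obtain ⟨⟨i, j, k⟩, rfl⟩ := (Multiplicative.ofAdd (α := ZMod 3 × ZMod 2 × ZMod 2)).surjective x
    obtain ⟨i, rfl⟩ := ZMod.intCast_surjective i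
    obtain ⟨j, rfl⟩ := ZMod.intCast_surjective j
    obtain ⟨k, rfl⟩ := ZMod.intCast_surjective k
    rw [hv] at hx
    have hsq : c ^ (i * 2) = 1 := by
      have h := congrArg (· ^ (2 : ℤ)) hx
      simp only [mul_zpow, ← _root_.zpow_mul, _root_.one_zpow] at h
      rwa [mul_comm j, mul_comm k, _root_.zpow_mul A', _root_.zpow_mul B', zpow_ofNat, zpow_ofNat,
        hA2, hB2, _root_.one_zpow, _root_.one_zpow, mul_one, mul_one] at h
    have hi : (i : ZMod 3) = 0 := by
      rw [← orderOf_dvd_iff_zpow_eq_one, hc] at hsq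
      rw [ZMod.intCast_zmod_eq_zero_iff_dvd]
      omega
    have hci : c ^ i = 1 := by
      rw [← orderOf_dvd_iff_zpow_eq_one, hc]
      exact (ZMod.intCast_zmod_eq_zero_iff_dvd _ _).1 hi
    rw [hci, one_mul] at hx
    have hA1 : A' ≠ 1 := fun h => ha (Subtype.ext (congrArg (fun z : ρ.ker => (z : S)) h))
    have hB1 : B' ≠ 1 := fun h => hb1 (Subtype.ext (congrArg (fun z : ρ.ker => (z : S)) h))
    have hAB : A' * B' ≠ 1 := fun h => hba (Subtype.ext (congrArg (fun z : ρ.ker => (z : S))
      (show B' = A' by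
        rw [← inv_eq_of_mul_eq_one_right h]
        exact inv_eq_of_mul_eq_one_right (by rw [← pow_two, hA2]))))
    have par : ∀ (g : ρ.ker), g ^ 2 = 1 → ∀ n : ℤ,
        ((n : ZMod 2) = 0 ∧ g ^ n = 1) ∨ ((n : ZMod 2) = 1 ∧ g ^ n = g) := by
      intro g hg n
      have h2 : ((2 : ℤ) : ZMod 2) = 0 := (ZMod.intCast_zmod_eq_zero_iff_dvd _ _).2 dvd_rfl
      rcases Int.even_or_odd' n with ⟨m, rfl | rfl⟩
      · left
        exact ⟨by rw [Int.cast_mul, h2, zero_mul],
          by rw [_root_.zpow_mul, zpow_ofNat, hg, _root_.one_zpow]⟩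
      · right
        exact ⟨by rw [Int.cast_add, Int.cast_mul, h2, zero_mul, zero_add, Int.cast_one],
          by rw [_root_.zpow_add, _root_.zpow_mul, zpow_ofNat, hg, _root_.one_zpow, one_mul, zpow_one]⟩
    rcases par A' hA2 j with ⟨hj, hAj⟩ | ⟨hj, hAj⟩ <;> rcases par B' hB2 k with ⟨hk, hBk⟩ | ⟨hk, hBk⟩ <;>
      rw [hAj, hBk] at hx
    · rw [hi, hj, hk]; rfl
    · exact absurd (by simpa using hx) hB1
    · exact absurd (by simpa using hx) hA1
    · exact absurd hx hAB
  have hbij : Function.Bijective φ := hinj.bijective_of_nat_card_le (by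
    rw [hcard12, Nat.card_congr Multiplicative.toAdd, Nat.card_prod, Nat.card_prod, Nat.card_zmod,
      Nat.card_zmod])
  exact H76.Cover.hasSchurMultiplier ρ hρ hsplit (MulEquiv.ofBijective φ hbij).symm

end H51.U62
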