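import Cfsg.Agent.H50.Generation
import Cfsg.Agent.H50.Transvection

/-!
`SU 4 2` is generated by the monomial elements and one further element.
-/

set_option autoImplicit false

namespace H51.U62

open Matrix Cfsg H50

universe u

variable {F : Type u} [Field F] [Fintype F] (hF : Fintype.card F = 2 ^ 2)
include hF

theorem add_self_zero (a : F) : a + a = 0 := by
  have h1 : ((-1 : F)) ^ 2 = -1 := by
    have h := neg_pow_q hF (1 : F)
    rwa [one_pow] at h
  have h2 : (1 : F) + 1 = 0 := by linear_combination h1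
  linear_combination a * h2

theorem neg_eq (a : F) : -a = a := by linear_combination -(add_self_zero hF a)

theorem cube_eq_one {a : F} (ha : a ≠ 0) : a ^ 3 = 1 := by
  have h1 := FiniteField.pow_card_sub_one_eq_one a ha
  rw [hF] at h1
  exact h1

theorem exists_omega : ∃ ω : F, ω ^ 3 = 1 ∧ ω ≠ 1 ∧ ω ^ 2 + ω + 1 = 0 := by
  classical
  obtain ⟨ω, -, hω⟩ := Finset.exists_mem_notMem_of_card_lt_card
    (s := ({0, 1} : Finset F)) (t := Finset.univ)
    (lt_of_le_of_lt Finset.card_le_two (by rw [Finset.card_univ, hF]; norm_num))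
  simp only [Finset.mem_insert, Finset.mem_singleton, not_or] at hω
  have h3 := cube_eq_one hF hω.1
  refine ⟨ω, h3, hω.2, ?_⟩
  have h : (ω - 1) * (ω ^ 2 + ω + 1) = 0 := by linear_combination h3
  exact (mul_eq_zero.1 h).resolve_left (sub_ne_zero.2 hω.2)

omit hF in
/-- The unit vectors are sent to multiples of unit vectors. -/
def IsMon (g : SU 4 F 2) : Prop :=
  ∀ j, ∃ i, ∃ c : F, c ^ 3 = 1 ∧ suMat g *ᵥ Pi.single j 1 = c • (Pi.single i 1 : Fin 4 → F)

omit [Fintype F] hF in
/-- The extra element. -/
def mixMat (ω : F) : Matrix (Fin 4) (Fin 4) F :=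
  !![1, 0, 0, 0; 0, 1, 1, 1; 0, 1, ω, ω ^ 2; 0, 1, ω ^ 2, ω]

theorem exists_mix {ω : F} (h2 : ω ^ 2 + ω + 1 = 0) :
    ∃ g : SU 4 F 2, suMat g = mixMat ω := by
  have hz := add_self_zero hF (1 : F)
  have hneg := neg_eq hF
  refine ⟨mkSU (mixMat ω) (fun u v => ?_) ?_, rfl⟩
  · simp [hermForm, mulVec, dotProduct, Fin.sum_univ_four, mixMat]
    grobner
  · rw [mixMat, Matrix.det_succ_row_zero, Fin.sum_univ_four]
    simp [Matrix.det_fin_three, Fin.succAbove]
    grobner

/-- `SU 4 2` is generated by the monomial elements and the extra element. -/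
theorem closure_mon_mix {ω : F} (h2 : ω ^ 2 + ω + 1 = 0) (H : Subgroup (SU 4 F 2))
    (hmon : ∀ g, IsMon g → g ∈ H) (hmix : ∀ g : SU 4 F 2, suMat g = mixMat ω → g ∈ H) :
    H = ⊤ := by
  classical
  have hcube := fun {a : F} (ha : a ≠ 0) => cube_eq_one hF ha
  have hz := add_self_zero hF (1 : F)
  have hone : (1 : F) + 1 ^ 2 = 0 := by rw [one_pow]; exact hz
  have hiso : ∀ w : Fin 4 → F, (∀ i, w i = 0 ∨ w i ^ 3 = 1) → hermForm 4 F 2 w w =
      ∑ i, (if w i = 0 then (0 : F) else 1) := fun w hw => by
    refine Finset.sum_congr rfl fun i _ => ?_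
    split_ifs with h
    · rw [h, zero_mul]
    · rw [← pow_succ', hcube h]
  rw [eq_top_iff, ← transSub_eq_top hF 4 (by norm_num) (by norm_num), transSub, Subgroup.closure_le]
  rintro A ⟨v, c, hv, hA⟩
  by_cases hv0 : v = 0
  · have : A = 1 := suMat_ext fun z => by rw [hA, ut_mulVec, hv0, suMat_one, one_mulVec]; simp
    rw [this]; exact H.one_mem
  have hc : c + c ^ 2 = 0 := by
    have hi : IsIso 2 (unitaryTransvection 4 2 v c) := by rw [← hA]; exact SU_isIso A
    simpa [hv] using (ut_isIso_iff hF hv0).1 hi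
  have hc01 : c = 0 ∨ c = 1 := by
    have h : c * (1 + c) = 0 := by linear_combination hc
    exact (mul_eq_zero.1 h).imp_right fun h => by linear_combination h - hz
  rcases hc01 with rfl | rfl
  · have : A = 1 := suMat_ext fun z => by rw [hA, ut_mulVec, suMat_one, one_mulVec]; simp
    rw [this]; exact H.one_mem
  obtain rfl : A = tv hF v 1 hv hone := suMat_ext fun z => by rw [hA, tv_mulVec, ut_mulVec]
  by_cases hfull : ∀ i, v i ≠ 0
  · -- support four
    have hprod : ∏ i, v i ≠ 0 := Finset.prod_ne_zero_iff.2 fun i _ => hfull i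
    set l := (∏ i, v i)⁻¹ with hl
    have hl0 : l ≠ 0 := inv_ne_zero hprod
    have hl3 : l ^ 3 = 1 := hcube hl0
    set d : Fin 4 → F := fun i => l * v i with hd
    have hd3 : ∀ i, d i ^ 3 = 1 := fun i => hcube (mul_ne_zero hl0 (hfull i))
    have hdi : IsIso 2 (Matrix.diagonal d) := fun u w => by
      simp only [hermForm, mulVec_diagonal, mul_pow]
      refine Finset.sum_congr rfl fun i _ => ?_
      linear_combination u i * w i ^ 2 * hd3 i
    have hdd : (Matrix.diagonal d).det = 1 := by
      rw [Matrix.det_diagonal]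
      have e1 : ∏ i, d i = l ^ 4 * ∏ i, v i := by
        simp only [hd, Finset.prod_mul_distrib, Finset.prod_const, Finset.card_univ, Fintype.card_fin]
      rw [e1, show l ^ 4 = l ^ 3 * l by ring, hl3, one_mul, hl, inv_mul_cancel₀ hprod]
    let D : SU 4 F 2 := mkSU (Matrix.diagonal d) hdi hdd
    have hDv : ∀ z, suMat D *ᵥ z = fun i => d i * z i := fun z => funext fun i => mulVec_diagonal _ _ _
    have hD : D ∈ H := hmon _ fun j => ⟨j, d j, hd3 j, by
      rw [hDv]; funext i; rcases eq_or_ne i j with rfl | h <;> simp_all⟩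
    obtain ⟨g, hg⟩ := exists_mix hF h2
    set p : Fin 4 → F := ![1, 1, 0, 0]
    have hgp : suMat g *ᵥ p = 1 := by
      rw [hg]
      funext i
      fin_cases i <;> simp [p, mixMat, mulVec, dotProduct, Fin.sum_univ_four]
    have hp : hermForm 4 F 2 p p = 0 := by simp [hermForm, p, Fin.sum_univ_four, hz]
    have hP : tv hF p 1 hp hone ∈ H := by
      refine hmon _ fun j => ?_
      fin_cases j
      · exact ⟨1, 1, one_pow _, by
          rw [tv_mulVec]; funext i; fin_cases i <;> simp [hermForm, p, Fin.sum_univ_four, hz]⟩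
      · exact ⟨0, 1, one_pow _, by
          rw [tv_mulVec]; funext i; fin_cases i <;> simp [hermForm, p, Fin.sum_univ_four, hz]⟩
      · exact ⟨2, 1, one_pow _, by
          rw [tv_mulVec]; funext i; fin_cases i <;> simp [hermForm, p, Fin.sum_univ_four]⟩
      · exact ⟨3, 1, one_pow _, by
          rw [tv_mulVec]; funext i; fin_cases i <;> simp [hermForm, p, Fin.sum_univ_four]⟩
    have key : tv hF v 1 hv hone = D * g * tv hF p 1 hp hone * g⁻¹ * D⁻¹ := by
      refine suMat_ext fun z => ?_
      simp only [suMat_mulVec_mul, tv_mulVec, mulVec_add, mulVec_smul, suMat_mulVec_inv, hgp]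
      rw [suMat_inv_h, hgp, suMat_inv_h]
      have hd1 : suMat D *ᵥ (1 : Fin 4 → F) = l • v := by
        rw [hDv]; funext i; simp [hd]
      rw [hd1, h_smul_right hF, smul_smul]
      congr 2
      linear_combination -(hermForm 4 F 2 z v) * hl3
    rw [key]
    exact mul_mem (mul_mem (mul_mem (mul_mem hD (hmix g hg)) hP) (inv_mem (hmix g hg))) (inv_mem hD)
  · -- support two
    push Not at hfull
    refine hmon _ fun j => ?_
    have hsum := (hiso v fun i => (em (v i = 0)).imp_right hcube).symm.trans hv
    by_cases hj : v j = 0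
    · exact ⟨j, 1, one_pow _, by rw [tv_mulVec, h_single_left hF, hj]; simp⟩
    have hvj : v j ^ 3 = 1 := hcube hj
    obtain ⟨k, hkj, hk, hoth⟩ : ∃ k, k ≠ j ∧ v k ≠ 0 ∧ ∀ i, i ≠ j → i ≠ k → v i = 0 := by
      set S := Finset.univ.filter fun i => v i ≠ 0 with hS
      have hcard : ((S.card : ℕ) : F) = 0 := by
        rw [← hsum, Finset.natCast_card_filter]
        exact Finset.sum_congr rfl fun i _ => by split_ifs <;> simp_all
      obtain ⟨z, hz0⟩ := hfull
      have h3 : S.card ≤ 3 := by
        have hle : S ⊆ Finset.univ.erase z := fun i hi => by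
          simp only [hS, Finset.mem_filter] at hi
          simp only [Finset.mem_erase, Finset.mem_univ, and_true]
          rintro rfl
          exact hi.2 hz0
        simpa using Finset.card_le_card hle
      have hjS : j ∈ S := by simp [hS, hj]
      have h1 : 0 < S.card := Finset.card_pos.2 ⟨j, hjS⟩
      have h2 : S.card = 2 := by
        interval_cases hcc : S.card
        · simp at hcard
        · rfl
        · exfalso
          rw [Nat.cast_ofNat] at hcard
          exact one_ne_zero (α := F) (by linear_combination hcard - hz)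
      obtain ⟨a, b, hab, hSab⟩ := Finset.card_eq_two.1 h2
      have hmem : ∀ i, v i ≠ 0 → i = a ∨ i = b := fun i hi => by
        have : i ∈ S := by simp [hS, hi]
        rw [hSab] at this
        simpa using this
      have hav : v a ≠ 0 := by
        have : a ∈ S := by rw [hSab]; simp
        simpa [hS] using this
      have hbv : v b ≠ 0 := by
        have : b ∈ S := by rw [hSab]; simp
        simpa [hS] using this
      rcases hmem j hj with rfl | rfl
      · exact ⟨b, hab.symm, hbv, fun i hij hib => by_contra fun h => (hmem i h).elim hij hib⟩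
      · exact ⟨a, hab, hav, fun i hij hia => by_contra fun h => (hmem i h).elim hia hij⟩
    refine ⟨k, v j ^ 2 * v k, ?_, ?_⟩
    · rw [mul_pow, ← pow_mul, pow_mul', hvj, one_pow, one_mul, hcube hk]
    · rw [tv_mulVec, h_single_left hF]
      funext i
      rcases eq_or_ne i j with rfl | hij
      · simp [hkj.symm]
        linear_combination hz + hvj
      · rcases eq_or_ne i k with rfl | hik
        · simp [hij]
        · simp [hij, hik, hoth i hij hik]

end H51.U62
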