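import Cfsg.Agent.H51.U62.Bound

/-!
The diagonal outer automorphism of `SU 6 2` does not lift to a stem extension with kernel of order
two; so such an extension gives one with kernel of order four.
-/

set_option autoImplicit false

namespace H51.U62

open Matrix Cfsg H50 H50.PointStab H50.RadFrame H50.RadLift H50.RadSplit H50.RadFamily
open scoped commutatorElement

universe u v w

/-- A stem extension of a perfect group is perfect. -/
theorem perfect_of_stem {Γ : Type v} {S : Type w} [Group Γ] [Group S] (σ : Γ →* S)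
    (hσ : IsStemExtension σ) (hS : commutator S = ⊤) : commutator Γ = ⊤ := by
  refine eq_top_iff.2 fun g _ => ?_
  have h1 : σ g ∈ (commutator Γ).map σ := by
    rw [map_commutator_eq, MonoidHom.range_eq_top.2 hσ.1, ← commutator_def, hS]; trivial
  obtain ⟨a, ha, hag⟩ := h1
  rw [show g = a * (a⁻¹ * g) by group]
  exact mul_mem ha (hσ.2.2 (by rw [MonoidHom.mem_ker, map_mul, map_inv, hag, inv_mul_cancel]))

/-- The derived subgroup of a central extension of a perfect group is a stem extension. -/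
theorem stem_commutator {P : Type v} {S : Type w} [Group P] [Group S] (τ : P →* S)
    (hs : Function.Surjective τ) (hc : τ.ker ≤ Subgroup.center P) (hS : commutator S = ⊤) :
    IsStemExtension (τ.comp (commutator P).subtype) := by
  have hD : (commutator P).map τ = ⊤ := by
    rw [map_commutator_eq, MonoidHom.range_eq_top.2 hs, ← commutator_def, hS]
  have hτs : Function.Surjective (τ.comp (commutator P).subtype) := by
    intro x
    obtain ⟨y, hy, rfl⟩ := hD.ge (Subgroup.mem_top x)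
    exact ⟨⟨y, hy⟩, rfl⟩
  refine ⟨hτs, fun z hz => Subgroup.mem_center_iff.2 fun g =>
    Subtype.ext (Subgroup.mem_center_iff.1 (hc hz) g), ?_⟩
  have hperf : commutator ↥(commutator P) = ⊤ := by
    apply Subgroup.map_injective (commutator P).subtype_injective
    rw [Subgroup.map_subtype_commutator, ← MonoidHom.range_eq_map, Subgroup.range_subtype]
    apply le_antisymm (commutator P).commutator_le_self
    refine Subgroup.commutator_le.2 fun a _ b _ => ?_
    obtain ⟨a', ha'⟩ := hτs (τ a)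
    obtain ⟨b', hb'⟩ := hτs (τ b)
    rw [H76.Cover.comm_congr τ hc (x' := (a' : P)) (y' := (b' : P)) ha'.symm hb'.symm]
    exact Subgroup.commutator_mem_commutator a'.2 b'.2
  rw [hperf]
  exact le_top

/-- A homomorphism over a surjection to a perfect extension is surjective. -/
theorem surjective_of_over {E : Type v} {Γ S : Type w} [Group E] [Group Γ] [Group S] (σ : Γ →* S)
    (hc : σ.ker ≤ Subgroup.center Γ) (hperf : commutator Γ = ⊤) (f : E →* Γ)
    (hf : Function.Surjective (σ.comp f)) : Function.Surjective f := by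
  have h : commutator Γ ≤ f.range := by
    rw [commutator_def, Subgroup.commutator_le]
    intro a _ b _
    obtain ⟨a', ha⟩ := hf (σ a)
    obtain ⟨b', hb⟩ := hf (σ b)
    rw [H76.Cover.comm_congr σ hc (x' := f a') (y' := f b') ha.symm hb.symm, ← map_commutatorElement]
    exact ⟨_, rfl⟩
  exact MonoidHom.range_eq_top.1 (eq_top_iff.2 (hperf ▸ h))

variable {F : Type u} [Field F] [Fintype F] (hF : Fintype.card F = 2 ^ 2) (C : Cfg F)
include hF

/-- The diagonal automorphism attached to the configuration. -/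
theorem exists_diagonal :
    ∃ δ : SU 6 F 2 ≃* SU 6 F 2, (∀ g ∈ stab2 C.x C.y, δ g = g) ∧
      ∀ g ∈ H55.Psu.radU (q := 2) C.x, δ g ∈ H55.Psu.radU (q := 2) C.x ∧
        pr C.x C.y (δ g) = C.ω • pr C.x C.y g := by
  have h := C.hyp
  have he := C.frame
  have hnd : GramND 2 (Sum.elim ![C.x, C.y] C.e) :=
    sumElim_gramND hF (h.gramND hF) he.on fun a => Fin.forall_fin_two.2 (mem_pperp.1 (he.perp a))
  have hmk : ∀ d : F, d ^ 3 = 1 → ∃ M : Matrix (Fin 6) (Fin 6) F, IsIso 2 M ∧ M *ᵥ C.x = C.x ∧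
      M *ᵥ C.y = C.y ∧ ∀ w ∈ pperp 2 C.x C.y, M *ᵥ w = d • w := by
    intro d hd
    obtain ⟨M, hM, hMb, -⟩ := exists_iso_diag hF (κ := Fin 2 ⊕ Fin 4)
      (by simp only [Fintype.card_sum, Fintype.card_fin])
      (GramND.linearIndependent hF hnd) (Sum.elim ![1, 1] fun _ => d) (by
        have hz : ∀ i k, hermForm 6 F 2 (C.e i) (![C.x, C.y] k) = 0 := fun i k =>
          mem_perp_range.1 (he.perp i) k
        rintro (i | i) (j | j) hne
        · fin_cases i <;> fin_cases j <;> simp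
        · exact absurd ((h_eq_zero_comm hF).1 (hz j i)) hne
        · exact absurd (hz i j) hne
        · simp only [Sum.elim_inr]
          rw [← pow_succ']; exact hd)
    refine ⟨M, hM, by simpa using hMb (Sum.inl 0), by simpa using hMb (Sum.inl 1), fun w hw => ?_⟩
    rw [frame_ext hF h he hw]
    simp only [mulVec_sum, mulVec_smul, Finset.smul_sum]
    refine Finset.sum_congr rfl fun i _ => ?_
    rw [show M *ᵥ C.e i = d • C.e i from hMb (Sum.inr i), smul_comm]
  obtain ⟨M, hM, hMx, hMy, hMw⟩ := hmk C.ω C.omega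
  obtain ⟨M', hM', hMx', hMy', hMw'⟩ := hmk (C.ω ^ 2) (by
    rw [← pow_mul, mul_comm, pow_mul, C.omega, one_pow])
  have hωω : C.ω * C.ω ^ 2 = 1 := by rw [← pow_succ']; exact C.omega
  have hM1 : M * M' = 1 := Matrix.ext_of_mulVec_single fun i => by
    obtain ⟨w, hwx, hwy, hz⟩ := pair_decomp hF h (Pi.single i (1 : F))
    rw [one_mulVec, ← mulVec_mulVec]
    generalize (Pi.single i (1 : F) : Fin 6 → F) = z at hz ⊢
    rw [hz]
    simp only [mulVec_add, mulVec_smul, hMx', hMy', hMw' w (mem_pperp.2 ⟨hwx, hwy⟩), hMx, hMy,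
      hMw w (mem_pperp.2 ⟨hwx, hwy⟩), smul_smul]
    rw [mul_comm (C.ω ^ 2), hωω, one_smul]
  have hM2 : M' * M = 1 := mul_eq_one_comm.1 hM1
  have hdet : ∀ g : SU 6 F 2, ∀ A B : Matrix (Fin 6) (Fin 6) F, A * B = 1 →
      (A * suMat g * B).det = 1 := fun g A B hAB => by
    rw [det_mul, det_mul, show (suMat g).det = 1 from g.1.2, mul_one, ← det_mul, hAB, det_one]
  let δ : SU 6 F 2 ≃* SU 6 F 2 :=
    { toFun := fun g => mkSU (M * suMat g * M') ((hM.mul (SU_isIso g)).mul hM') (hdet g _ _ hM1)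
      invFun := fun g => mkSU (M' * suMat g * M) ((hM'.mul (SU_isIso g)).mul hM) (hdet g _ _ hM2)
      left_inv := fun g => SU_ext (by
        show M' * (M * suMat g * M') * M = suMat g
        rw [← Matrix.mul_assoc, ← Matrix.mul_assoc, hM2, Matrix.one_mul, Matrix.mul_assoc, hM2,
          Matrix.mul_one])
      right_inv := fun g => SU_ext (by
        show M * (M' * suMat g * M) * M' = suMat g
        rw [← Matrix.mul_assoc, ← Matrix.mul_assoc, hM1, Matrix.one_mul, Matrix.mul_assoc, hM1,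
          Matrix.mul_one])
      map_mul' := fun a b => SU_ext (by
        show M * (suMat a * suMat b) * M' = M * suMat a * M' * (M * suMat b * M')
        simp only [Matrix.mul_assoc]
        rw [← Matrix.mul_assoc M' M, hM2, Matrix.one_mul]) }
  have hδ : ∀ g v, suMat (δ g) *ᵥ v = M *ᵥ (suMat g *ᵥ (M' *ᵥ v)) := fun g v => by
    show (M * suMat g * M') *ᵥ v = _
    rw [mulVec_mulVec, mulVec_mulVec, Matrix.mul_assoc]
  refine ⟨δ, fun g hg => suMat_ext fun v => ?_, fun g hg => ⟨⟨?_, fun z hz => ?_⟩, ?_⟩⟩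
  · obtain ⟨hgx, hgy⟩ := mem_stab2.1 hg
    obtain ⟨w, hwx, hwy, hz⟩ := pair_decomp hF h v
    have hgw : suMat g *ᵥ w ∈ pperp 2 C.x C.y := by
      refine mem_pperp.2 ⟨?_, ?_⟩
      · conv_lhs => arg 5; rw [← hgx]
        rw [suMat_h, hwx]
      · conv_lhs => arg 5; rw [← hgy]
        rw [suMat_h, hwy]
    rw [hδ, hz]
    simp only [mulVec_add, mulVec_smul, hMx', hMy', hMw' w (mem_pperp.2 ⟨hwx, hwy⟩), hgx, hgy, hMx,
      hMy, hMw _ hgw, smul_smul]
    rw [mul_comm (C.ω ^ 2), hωω, one_smul]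
  · rw [hδ, hMx', hg.1, hMx]
  · obtain ⟨k, hk⟩ := hg.2 (M' *ᵥ z) (by
      conv_lhs => arg 5; rw [← hMx']
      rw [hM', hz])
    refine ⟨k, ?_⟩
    rw [hδ, hk, mulVec_add, mulVec_smul, hMx, mulVec_mulVec, hM1, one_mulVec]
  · have hw := pr_mem hF h (radU_le_stab C.x hg)
    obtain ⟨-, hwy⟩ := mem_pperp.1 hw
    have hy' : suMat (δ g) *ᵥ C.y =
        C.y + C.ω • pr C.x C.y g + hermForm 6 F 2 (suMat g *ᵥ C.y - C.y) C.y • C.x := by
      rw [hδ, hMy']
      nth_rw 1 [mulVec_y g C.x C.y]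
      simp only [mulVec_add, mulVec_smul, hMy, hMw _ hw, hMx]
    generalize pr C.x C.y g = p at hy' hwy ⊢
    generalize hermForm 6 F 2 (suMat g *ᵥ C.y - C.y) C.y = a at hy'
    have e2 : hermForm 6 F 2 (C.y + C.ω • p + a • C.x - C.y) C.y = a := by
      simp [h_sub_left, h_add_left, h_smul_left, hwy, h.2.2]
    rw [pr, hy', e2]
    abel

/-- The diagonal automorphism does not lift. -/
theorem no_twist {Γ : Type u} [Group Γ] [Finite Γ] (σ : Γ →* SU 6 F 2) (hσ : IsStemExtension σ)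
    (hcard : Nat.card σ.ker = 2) (δ : SU 6 F 2 ≃* SU 6 F 2)
    (hδ2 : ∀ g ∈ stab2 C.x C.y, δ g = g)
    (hδr : ∀ g ∈ H55.Psu.radU (q := 2) C.x, δ g ∈ H55.Psu.radU (q := 2) C.x ∧
      pr C.x C.y (δ g) = C.ω • pr C.x C.y g)
    (θ : Γ →* Γ) (hθ : ∀ a, σ (θ a) = δ (σ a)) : False := by
  obtain ⟨hs, hc, hd⟩ := hσ
  have hσ' : IsStemExtension σ := ⟨hs, hc, hd⟩
  obtain ⟨T⟩ := exists_lifts hF C σ hs
  have hperf := perfect_of_stem σ hσ' (SU_perfect hF (n := 6) (by norm_num) (by norm_num))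
  have hθinj : Function.Injective θ := Finite.injective_iff_surjective.2
    (surjective_of_over σ hc hperf θ fun b => by
      obtain ⟨a, ha⟩ := hs (δ.symm b)
      exact ⟨a, by rw [MonoidHom.comp_apply, hθ, ha, MulEquiv.apply_symm_apply]⟩)
  have hfix : ∀ z, σ z = 1 → θ z = z := by
    intro z hz
    by_cases hz1 : z = 1
    · rw [hz1, map_one]
    obtain ⟨w, -, huniq⟩ := (Nat.card_eq_two_iff' (1 : σ.ker)).1 hcard
    have h1 : (⟨z, hz⟩ : σ.ker) = w := huniq _ fun h => hz1 (congrArg Subtype.val h)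
    have h2 : (⟨θ z, by rw [MonoidHom.mem_ker, hθ, hz, map_one]⟩ : σ.ker) = w := huniq _ fun h => by
      have h3 : θ z = 1 := congrArg Subtype.val h
      exact hz1 (hθinj (by rw [h3, map_one]))
    exact congrArg Subtype.val (h2.trans h1.symm)
  let Θ : Abelianization (Qh σ C.x) →* Abelianization (Qh σ C.x) := Abelianization.map
    ((θ.comp (Qh σ C.x).subtype).codRestrict _ fun a => by
      show σ (θ a) ∈ H55.Psu.radU C.x
      rw [hθ]; exact (hδr _ a.2).1)
  let P : Abelianization (Qh σ C.x) → (Fin 6 → F) := fun a =>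
    Multiplicative.toAdd (prAb hF σ C.hyp a)
  have hP : ∀ a, P (Θ a) = C.ω • P a := by
    intro a
    obtain ⟨b, rfl⟩ := QuotientGroup.mk_surjective a
    show pr C.x C.y (σ (θ b)) = C.ω • pr C.x C.y (σ b)
    rw [hθ]; exact (hδr _ b.2).2
  have hcomm : ∀ g : Nrm σ C.x, σ g ∈ stab2 C.x C.y → ∀ a, Θ (psi σ g a) = psi σ g (Θ a) := by
    intro g hg a
    have hg' : σ (θ g) = σ g := by rw [hθ, hδ2 _ hg]
    let g' : Nrm σ C.x := ⟨θ g, comap_stab_le_Nrm hF σ C.x (show σ (θ g) ∈ stab C.x from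
      hg' ▸ hg.1)⟩
    rw [psi_apply, psi_apply, map_div, cj_congr σ hc g g' hg'.symm (Θ a)]
    congr 1
    obtain ⟨b, rfl⟩ := QuotientGroup.mk_surjective a
    show Abelianization.of _ = Abelianization.of _
    exact congrArg _ (Subtype.ext (by simp [g', map_mul, map_inv]))
  have hst : ∀ i, σ (T.g i) ∈ stab2 C.x C.y := fun i => mem_stab2.2 ⟨(T.tw i).1, (T.tw i).2.1⟩
  have hL : ∀ c ∈ Lsub hF T, Θ c ∈ Lsub hF T := by
    rintro c ⟨⟨b, hb, rfl⟩, hc2⟩
    refine ⟨⟨Θ b, mem_perp_singleton.2 ?_, (hcomm _ (hst 1) b).symm⟩, ?_⟩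
    · show hermForm 6 F 2 (P (Θ b)) (C.e 1) = 0
      rw [hP, h_smul_left, show hermForm 6 F 2 (P b) (C.e 1) = 0 from mem_perp_singleton.1 hb,
        mul_zero]
    · show P (Θ _) ∈ Submodule.span F {C.e 0}
      rw [hP]
      exact Submodule.smul_mem _ _ hc2
  have hk0 : σ T.k0 ∈ stab2 C.x C.y := T.extra ▸ C.G0_mem
  have hY : ∀ d ∈ Lsub hF T, psi σ T.k0 d = 1 := by
    intro d hdL
    obtain ⟨-, hb1, -⟩ :=
      part_spec hF σ hs hc C.hyp C.frame C.omega C.omega_ne (by norm_num) (T.tw 1)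
    have hd0 : P d ∈ Submodule.span F {C.e 0} := hdL.2
    have hd1 : hermForm 6 F 2 (P d) (C.e 1) = 0 := by
      obtain ⟨r, hr⟩ := Submodule.mem_span_singleton.1 hd0
      rw [← hr, h_smul_left, C.frame.on, if_neg (by simp), mul_zero]
    obtain ⟨c, hc1, hPc⟩ := hb1 ((C.ω - 1)⁻¹ • P d)
      (Submodule.smul_mem _ _ (prAb_mem hF σ hs hc C.hyp C.frame d))
      (by rw [h_smul_left, hd1, mul_zero])
    have hcL : c ∈ Lsub hF T := ⟨hc1, by
      show P c ∈ Submodule.span F {C.e 0}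
      rw [show P c = _ from hPc]
      exact Submodule.smul_mem _ _ hd0⟩
    have hdc : d = Θ c / c := eq_of_mem_Lsub hF T hs hc hdL (div_mem (hL c hcL) hcL) (by
      show P d = Multiplicative.toAdd (prAb hF σ C.hyp (Θ c / c))
      rw [map_div, toAdd_div]
      show P d = P (Θ c) - P c
      rw [hP, show P c = _ from hPc]
      conv_lhs => rw [← one_smul F (P d), ← mul_inv_cancel₀ (sub_ne_zero.2 C.omega_ne), mul_smul]
      rw [sub_smul, one_smul])
    obtain ⟨k, hk, hpk⟩ := exists_ker_of_prAb hF σ hs hc C.hyp C.frame (by norm_num)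
      (prAb_Ysub hF T hs hc ⟨c, hcL, rfl⟩)
    rw [hdc, map_div, ← hcomm _ hk0 c, div_eq_one, hpk]
    show Abelianization.of _ = Abelianization.of k
    exact congrArg _ (Subtype.ext (hfix _ hk))
  obtain ⟨f, hf⟩ := exists_embed hF σ hσ' T
  have h1 : ∀ y : Ysub hF T, y = 1 := by
    rintro ⟨_, c, hcm, rfl⟩
    exact Subtype.ext (hY c hcm)
  haveI : Subsingleton σ.ker := ⟨fun a b => hf ((h1 _).trans (h1 _).symm)⟩
  rw [Nat.card_unique] at hcard
  exact absurd hcard (by norm_num)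

/-- A stem extension with kernel of order two gives one with kernel of order four. -/
theorem exists_four {Γ : Type u} [Group Γ] [Finite Γ] (σ : Γ →* SU 6 F 2) (hσ : IsStemExtension σ)
    (hcard : Nat.card σ.ker = 2) :
    ∃ (S : Type u) (_ : Group S) (_ : Finite S) (τ : S →* SU 6 F 2),
      IsStemExtension τ ∧ Nat.card τ.ker = 4 := by
  obtain ⟨C⟩ := exists_cfg hF
  obtain ⟨δ, hδ2, hδr⟩ := exists_diagonal hF C
  obtain ⟨hs, hc, hd⟩ := hσ
  have hσ' : IsStemExtension σ := ⟨hs, hc, hd⟩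
  have hSU := SU_perfect hF (n := 6) (by norm_num) (by norm_num)
  have hperf := perfect_of_stem σ hσ' hSU
  let P : Subgroup (Γ × Γ) :=
    ((δ.toMonoidHom.comp σ).comp (MonoidHom.fst Γ Γ)).eqLocus (σ.comp (MonoidHom.snd Γ Γ))
  let τ0 : P →* SU 6 F 2 := (σ.comp (MonoidHom.snd Γ Γ)).comp P.subtype
  have hs0 : Function.Surjective τ0 := fun b => by
    obtain ⟨a, ha⟩ := hs (δ.symm b)
    obtain ⟨c, hc'⟩ := hs b
    exact ⟨⟨(a, c), show δ (σ a) = σ c by rw [ha, hc', MulEquiv.apply_symm_apply]⟩, hc'⟩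
  have hc0 : τ0.ker ≤ Subgroup.center P := by
    rintro ⟨⟨a, b⟩, hab⟩ hb
    have hb' : σ b = 1 := hb
    have ha' : σ a = 1 := by
      have h1 : δ (σ a) = σ b := hab
      rw [hb'] at h1
      exact δ.injective (h1.trans (map_one δ).symm)
    exact Subgroup.mem_center_iff.2 fun g =>
      Subtype.ext (Prod.ext (central σ hc ha' _) (central σ hc hb' _))
  have hstem := stem_commutator τ0 hs0 hc0 hSU
  let τ : ↥(commutator P) →* SU 6 F 2 := τ0.comp (commutator P).subtype
  change IsStemExtension τ at hstem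
  refine ⟨↥(commutator P), inferInstance, inferInstance, τ, hstem, ?_⟩
  let p1 : ↥(commutator P) →* Γ :=
    ((MonoidHom.fst Γ Γ).comp P.subtype).comp (commutator P).subtype
  let p2 : ↥(commutator P) →* Γ :=
    ((MonoidHom.snd Γ Γ).comp P.subtype).comp (commutator P).subtype
  have hp : ∀ g, δ (σ (p1 g)) = σ (p2 g) := fun g => g.1.2
  have hτ : ∀ g, τ g = σ (p2 g) := fun g => rfl
  have hp1 : Function.Surjective p1 := surjective_of_over σ hc hperf p1 fun b => by
    obtain ⟨g, hg⟩ := hstem.1 (δ b)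
    exact ⟨g, δ.injective (by rw [MonoidHom.comp_apply, hp, ← hτ, hg])⟩
  have hne : ¬ Function.Injective p1 := fun hinj => by
    let e := MulEquiv.ofBijective p1 ⟨hinj, hp1⟩
    refine no_twist hF C σ hσ' hcard δ hδ2 hδr (p2.comp e.symm.toMonoidHom) fun a => ?_
    show σ (p2 (e.symm a)) = δ (σ a)
    rw [← hp, show p1 (e.symm a) = a from e.apply_symm_apply a]
  have hle := (ker_bound hF τ hstem).2
  let f : τ.ker →* σ.ker := (p1.comp τ.ker.subtype).codRestrict _ fun g => by
    show σ (p1 g) = 1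
    refine δ.injective ?_
    rw [hp, ← hτ, map_one]; exact g.2
  have hfs : Function.Surjective f := fun z => by
    obtain ⟨g, hg⟩ := hp1 z.1
    refine ⟨⟨g, ?_⟩, Subtype.ext hg⟩
    show τ g = 1
    rw [hτ, ← hp, hg, show σ z.1 = 1 from z.2, map_one]
  have h1 := Subgroup.card_mul_index f.ker
  rw [Subgroup.index_ker, MonoidHom.range_eq_top.2 hfs, Subgroup.card_top, hcard] at h1
  have h2 : 1 < Nat.card f.ker := by
    obtain ⟨g, hg, hg1⟩ : ∃ g, p1 g = 1 ∧ g ≠ 1 := by
      by_contra hno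
      push Not at hno
      exact hne ((injective_iff_map_eq_one p1).2 hno)
    have hgk : g ∈ τ.ker := by
      show τ g = 1
      rw [hτ, ← hp, hg, map_one, map_one]
    rw [Finite.one_lt_card_iff_nontrivial]
    exact ⟨⟨⟨⟨g, hgk⟩, Subtype.ext hg⟩, 1, fun h =>
      hg1 (congrArg (fun z : f.ker => (z.1 : ↥(commutator P))) h)⟩⟩
  omega

end H51.U62
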