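import Cfsg.Agent.H51.U62.Cfg

/-!
The bound on the two-part of the kernel of a stem extension of `SU 6 2`: the kernel embeds in the
image of a group with four elements.
-/

set_option autoImplicit false

namespace H51.U62

open Matrix Cfsg H50 H50.PointStab H50.RadFrame H50.RadLift H50.RadPair H50.RadSplit H50.RadFamily
open scoped commutatorElement

universe u

/-- Reduction to a subgroup of odd index, for elements of two-power order. -/
theorem mem_commutator_comap_pow {Γ G : Type*} [Group Γ] [Group G] [Finite Γ] [Finite G]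
    (σ : Γ →* G) (hs : Function.Surjective σ) (hc : σ.ker ≤ Subgroup.center Γ) {ℓ : ℕ}
    [Fact ℓ.Prime] {H : Subgroup G} (hidx : ¬ ℓ ∣ H.index) {z : Γ} (hzc : z ∈ commutator Γ)
    (hzk : σ z = 1) {N : ℕ} (hzl : z ^ ℓ ^ N = 1) : z ∈ ⁅H.comap σ, H.comap σ⁆ := by
  obtain ⟨R⟩ := (inferInstance : Nonempty (Sylow ℓ (H.comap σ)))
  have hRp : IsPGroup ℓ ((R : Subgroup (H.comap σ)).map (H.comap σ).subtype) :=
    R.isPGroup'.map _
  have hRi : ¬ ℓ ∣ ((R : Subgroup (H.comap σ)).map (H.comap σ).subtype).index := by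
    rw [Subgroup.index_map_subtype, Subgroup.index_comap_of_surjective H hs]
    exact Nat.Prime.not_dvd_mul Fact.out R.not_dvd_index hidx
  let P : Sylow ℓ Γ := hRp.toSylow hRi
  have hle : (P : Subgroup Γ) ≤ H.comap σ := Subgroup.map_subtype_le _
  have hz : z ∈ Subgroup.center Γ := hc hzk
  have hzP : z ∈ P := by
    have hpz : IsPGroup ℓ (Subgroup.zpowers z) := fun x => ⟨N, by
      obtain ⟨k, hk⟩ := Subgroup.mem_zpowers_iff.1 x.2
      refine Subtype.ext ?_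
      show (x : Γ) ^ ℓ ^ N = 1
      rw [← hk, ← zpow_natCast, ← _root_.zpow_mul, mul_comm, _root_.zpow_mul, zpow_natCast, hzl,
        _root_.one_zpow]⟩
    obtain ⟨Q, hQ⟩ := hpz.exists_le_sylow
    obtain ⟨g, hg⟩ := MulAction.exists_smul_eq Γ Q P
    rw [← SetLike.mem_coe, ← hg, Sylow.coe_smul]
    exact ⟨z, hQ (Subgroup.mem_zpowers z), by simp [Subgroup.mem_center_iff.1 hz g]⟩
  have h := H97.mem_commutator_sylow P hz hzc hzP
  refine Subgroup.commutator_mono hle hle ?_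
  rw [← Subgroup.map_subtype_commutator]
  exact ⟨_, h, rfl⟩

variable {F : Type u} [Field F] [Fintype F] (hF : Fintype.card F = 2 ^ 2) (C : Cfg F)
variable {Γ : Type u} [Group Γ] (σ : Γ →* SU 6 F 2)

/-- Lifts of the twisting elements of the frame and of the extra generator. -/
structure Lifts where
  /-- the twisting elements -/
  g : Fin 4 → Nrm σ C.x
  /-- the extra element -/
  k0 : Nrm σ C.x
  tw : ∀ i, IsTw C.x C.y C.ω (C.e i) (σ (g i))
  extra : σ k0 = C.G0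

variable {σ} {C} (T : Lifts C σ)

/-- The part of the line of the first frame vector. -/
noncomputable def Lsub : Subgroup (Abelianization (Qh σ C.x)) :=
  part hF σ C.hyp (T.g 1) (C.e 1) ⊓
    ((Submodule.span F {C.e 0}).toAddSubgroup.toSubgroup).comap (prAb hF σ C.hyp)

/-- The partial complement. -/
noncomputable def Dsub : Subgroup (Abelianization (Qh σ C.x)) :=
  part hF σ C.hyp (T.g 0) (C.e 0) ⊔ Lsub hF T

/-- The defect. -/
noncomputable def Ysub : Subgroup (Abelianization (Qh σ C.x)) :=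
  (Lsub hF T).map (psi σ T.k0)

/-- The invariant subgroup. -/
noncomputable def Wsub : Subgroup (Abelianization (Qh σ C.x)) := Dsub hF T ⊔ Ysub hF T

include hF

local notation "P̄" => fun a => Multiplicative.toAdd (prAb hF σ (Cfg.hyp C) a)

theorem exists_lifts (C : Cfg F) (σ : Γ →* SU 6 F 2) (hs : Function.Surjective σ) :
    Nonempty (Lifts C σ) := by
  have h1 : ∀ i, ∃ g : Nrm σ C.x, IsTw C.x C.y C.ω (C.e i) (σ g) := fun i => by
    obtain ⟨t, ht⟩ := exists_isTw hF C.hyp C.frame (ω := C.ω) C.omega C.omega (C.frame.perp i)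
      (by rw [C.frame.on, if_pos rfl]) (by norm_num)
    obtain ⟨a, rfl⟩ := hs t
    exact ⟨⟨a, comap_stab_le_Nrm hF σ C.x ht.1⟩, ht⟩
  choose g hg using h1
  obtain ⟨a, ha⟩ := hs C.G0
  exact ⟨⟨g, ⟨a, comap_stab_le_Nrm hF σ C.x (show σ a ∈ stab C.x from ha ▸ C.G0_mem.1)⟩, hg, ha⟩⟩

variable (hs : Function.Surjective σ) (hc : σ.ker ≤ Subgroup.center Γ)
include hs hc

omit T in
theorem prAb_stab2 {k : Nrm σ C.x} (hk : σ k ∈ stab2 C.x C.y) (a : Abelianization (Qh σ C.x)) :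
    P̄ (cj σ k a) = suMat (σ k) *ᵥ P̄ a := by
  obtain ⟨hkx, hky⟩ := mem_stab2.1 hk
  rw [prAb_cj hF σ hs hc C.hyp C.frame (g := k) (l := 1) one_ne_zero (by rw [one_smul]; exact hkx)
    (by rw [one_pow, inv_one, one_smul]; exact hky) a, one_pow, one_smul]

omit T in
theorem cj_fix (k : Nrm σ C.x) {a : Abelianization (Qh σ C.x)} (h0 : P̄ a = 0) :
    cj σ k a = a := by
  obtain ⟨z, hz, rfl⟩ := exists_ker_of_prAb hF σ hs hc C.hyp C.frame (by norm_num) h0
  exact cj_ker σ hc k hz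

theorem eq_of_mem_Lsub {c c' : Abelianization (Qh σ C.x)} (h1 : c ∈ Lsub hF T)
    (h2 : c' ∈ Lsub hF T) (he : P̄ c = P̄ c') : c = c' :=
  part_unique hF σ hs hc C.hyp C.frame C.omega C.omega_ne (by norm_num) (T.tw 1) h1.1 h2.1 he

theorem prAb_Ysub {c : Abelianization (Qh σ C.x)} (hy : c ∈ Ysub hF T) : P̄ c = 0 := by
  obtain ⟨d, hd, rfl⟩ := hy
  obtain ⟨r, hr⟩ := Submodule.mem_span_singleton.1
    (show P̄ d ∈ Submodule.span F {C.e 0} from hd.2)
  have hG := C.G0_mem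
  rw [← T.extra] at hG
  obtain ⟨hkx, hky⟩ := mem_stab2.1 hG
  have h2 := prAb_psi hF σ hs hc C.hyp C.frame (g := T.k0) (l := 1) (ε := 1) one_ne_zero
    (by rw [one_smul]; exact hkx) (by rw [one_pow, inv_one, one_smul]; exact hky) d (by
      rw [one_pow, one_smul, one_smul]
      show suMat (σ T.k0) *ᵥ P̄ d = P̄ d
      rw [← hr, mulVec_smul, T.extra, C.G0_fix])
  rwa [sub_self, zero_smul] at h2

theorem eq_one_of_mem_Dsub {c : Abelianization (Qh σ C.x)} (hcD : c ∈ Dsub hF T)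
    (h0 : P̄ c = 0) : c = 1 := by
  obtain ⟨ha0, -, ha2⟩ :=
    part_spec hF σ hs hc C.hyp C.frame C.omega C.omega_ne (by norm_num) (T.tw 0)
  obtain ⟨c1, hc1, c2, hc2, rfl⟩ := Subgroup.mem_sup.1 hcD
  have hsum : P̄ c1 + P̄ c2 = 0 := by rw [← h0]; simp
  obtain ⟨r, hr⟩ := Submodule.mem_span_singleton.1
    (show P̄ c2 ∈ Submodule.span F {C.e 0} from hc2.2)
  have hr0 : r = 0 := by
    have h5 := congrArg (fun v => hermForm 6 F 2 v (C.e 0)) hsum
    simp only [h_add_left, h_zero_left] at h5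
    have h6 : hermForm 6 F 2 (P̄ c2) (C.e 0) = r := by
      rw [← hr, h_smul_left, C.frame.on, if_pos rfl, mul_one]
    linear_combination h5 - ha2 c1 hc1 - h6
  rw [hr0, zero_smul] at hr
  have hP1 : P̄ c1 = 0 := by rw [← hr, add_zero] at hsum; exact hsum
  rw [ha0 c1 hc1 hP1, eq_of_mem_Lsub hF T hs hc hc2 (one_mem _) (by rw [← hr]; simp), one_mul]

theorem exists_Dsub {v : Fin 6 → F} (hv : v ∈ pperp 2 C.x C.y) :
    ∃ c ∈ Dsub hF T, P̄ c = v := by
  obtain ⟨-, ha1, -⟩ :=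
    part_spec hF σ hs hc C.hyp C.frame C.omega C.omega_ne (by norm_num) (T.tw 0)
  obtain ⟨-, hb1, -⟩ :=
    part_spec hF σ hs hc C.hyp C.frame C.omega C.omega_ne (by norm_num) (T.tw 1)
  set r := hermForm 6 F 2 v (C.e 0) with hr
  obtain ⟨c1, hc1, hP1⟩ := ha1 (v - r • C.e 0)
    (Submodule.sub_mem _ hv (Submodule.smul_mem _ _ (C.frame.perp 0)))
    (by rw [h_sub_left, h_smul_left, C.frame.on, if_pos rfl, mul_one, ← hr, sub_self])
  obtain ⟨c2, hc2, hP2⟩ := hb1 (r • C.e 0) (Submodule.smul_mem _ _ (C.frame.perp 0))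
    (by rw [h_smul_left, C.frame.on, if_neg (by simp), mul_zero])
  refine ⟨c1 * c2, Subgroup.mul_mem_sup hc1 ⟨hc2, ?_⟩, ?_⟩
  · show P̄ c2 ∈ Submodule.span F {C.e 0}
    rw [hP2]
    exact Submodule.smul_mem _ _ (Submodule.mem_span_singleton_self _)
  · show Multiplicative.toAdd (prAb hF σ C.hyp (c1 * c2)) = v
    rw [map_mul, toAdd_mul]
    show P̄ c1 + P̄ c2 = v
    rw [hP1, hP2, sub_add_cancel]

theorem part_le_Dsub (j : Fin 4) : part hF σ C.hyp (T.g j) (C.e j) ≤ Dsub hF T := by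
  intro c hcm
  by_cases hj : j = 0
  · subst hj; exact Subgroup.mem_sup_left hcm
  have hspec := fun i => part_spec hF σ hs hc C.hyp C.frame C.omega C.omega_ne (by norm_num) (T.tw i)
  have hv := prAb_mem hF σ hs hc C.hyp C.frame c
  have hvj := (hspec j).2.2 c hcm
  set v := P̄ c
  set r := hermForm 6 F 2 v (C.e 0) with hr
  have h0j : hermForm 6 F 2 (C.e 0) (C.e j) = 0 := by rw [C.frame.on, if_neg (Ne.symm hj)]
  have hv1p : v - r • C.e 0 ∈ pperp 2 C.x C.y :=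
    Submodule.sub_mem _ hv (Submodule.smul_mem _ _ (C.frame.perp 0))
  obtain ⟨c1, hc1, hP1⟩ := (hspec j).2.1 _ hv1p (by
    rw [h_sub_left, h_smul_left, hvj, h0j, mul_zero, sub_zero])
  obtain ⟨c2, hc2, hP2⟩ := (hspec j).2.1 (r • C.e 0) (Submodule.smul_mem _ _ (C.frame.perp 0))
    (by rw [h_smul_left, h0j, mul_zero])
  have hv10 : hermForm 6 F 2 (v - r • C.e 0) (C.e 0) = 0 := by
    rw [h_sub_left, h_smul_left, C.frame.on, if_pos rfl, mul_one, ← hr, sub_self]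
  have hcc : c = c1 * c2 :=
    part_unique hF σ hs hc C.hyp C.frame C.omega C.omega_ne (by norm_num) (T.tw j) hcm
      (mul_mem hc1 hc2) (by
        show v = Multiplicative.toAdd (prAb hF σ C.hyp (c1 * c2))
        rw [map_mul, toAdd_mul]
        show v = P̄ c1 + P̄ c2
        rw [hP1, hP2, sub_add_cancel])
  obtain ⟨d1, hd1, hQ1⟩ := (hspec 0).2.1 _ hv1p hv10
  have e1 : c1 = d1 := glue hF σ hs hc C.hyp C.frame C.omega C.omega_ne (by norm_num)
    (C.frame.perp j) (by rw [C.frame.on, if_pos rfl]) (C.frame.perp 0)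
    (by rw [C.frame.on, if_neg hj]) (T.tw j) (T.tw 0) hc1 hd1 (by rw [hP1]; exact hv10)
    (hP1.trans hQ1.symm)
  have hL : c2 ∈ part hF σ C.hyp (T.g 1) (C.e 1) := by
    by_cases hj1 : j = 1
    · subst hj1; exact hc2
    have h01 : hermForm 6 F 2 (r • C.e 0) (C.e 1) = 0 := by
      rw [h_smul_left, C.frame.on, if_neg (by simp), mul_zero]
    obtain ⟨d2, hd2, hQ2⟩ := (hspec 1).2.1 (r • C.e 0) (Submodule.smul_mem _ _ (C.frame.perp 0)) h01
    rwa [glue hF σ hs hc C.hyp C.frame C.omega C.omega_ne (by norm_num)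
      (C.frame.perp j) (by rw [C.frame.on, if_pos rfl]) (C.frame.perp 1)
      (by rw [C.frame.on, if_neg hj1]) (T.tw j) (T.tw 1) hc2 hd2 (by rw [hP2]; exact h01)
      (hP2.trans hQ2.symm)]
  rw [hcc, e1]
  refine Subgroup.mul_mem_sup hd1 ⟨hL, ?_⟩
  show P̄ c2 ∈ Submodule.span F {C.e 0}
  rw [hP2]
  exact Submodule.smul_mem _ _ (Submodule.mem_span_singleton_self _)

theorem cj_part {k : Nrm σ C.x} (hk : σ k ∈ stab2 C.x C.y) {i j : Fin 4} {d : F} (hd : d ^ 3 = 1)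
    (hkj : suMat (σ k) *ᵥ C.e j = d • C.e i) {a : Abelianization (Qh σ C.x)}
    (ha : a ∈ part hF σ C.hyp (T.g j) (C.e j)) :
    cj σ k a ∈ part hF σ C.hyp (T.g i) (C.e i) := by
  have hd0 : d ≠ 0 := fun h0 => by rw [h0] at hd; simp at hd
  have hconj : σ k * σ (T.g j) * (σ k)⁻¹ = σ (T.g i) := by
    obtain ⟨h1, h2, h3, h4⟩ := isTw_conj hF C.hyp hk (T.tw j)
    rw [hkj] at h3 h4
    refine isTw_unique hF C.hyp C.frame (C.frame.perp i) (by rw [C.frame.on, if_pos rfl])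
      (by norm_num) ⟨h1, h2, ?_, fun v hv hvw => h4 v hv (by rw [h_smul_right hF, hvw, mul_zero])⟩
      (T.tw i)
    rw [mulVec_smul] at h3
    exact smul_right_injective _ hd0 h3
  obtain ⟨b, hb, rfl⟩ := ha
  refine ⟨cj σ k b, mem_perp_singleton.2 ?_, ?_⟩
  · have hb' : hermForm 6 F 2 (P̄ b) (C.e j) = 0 := mem_perp_singleton.1 hb
    show hermForm 6 F 2 (P̄ (cj σ k b)) (C.e i) = 0
    rw [prAb_stab2 hF hs hc hk]
    have h5 := suMat_h (σ k) (P̄ b) (C.e j)
    rw [hb', hkj, h_smul_right hF, mul_eq_zero] at h5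
    exact h5.resolve_left (pow_ne_zero _ hd0)
  · rw [psi_apply, psi_apply, map_div, cj_cj, cj_cj, cj_congr σ hc (T.g i * k) (k * T.g j) (by
      simp only [Subgroup.coe_mul, map_mul, ← hconj, inv_mul_cancel_right])]

theorem cj_Wsub_mon {k : Nrm σ C.x} (hk : σ k ∈ stab2 C.x C.y)
    (hmon : ∀ j, ∃ i, ∃ c : F, c ^ 3 = 1 ∧ suMat (σ k) *ᵥ C.e j = c • C.e i) :
    ∀ c ∈ Wsub hF T, cj σ k c ∈ Wsub hF T := by
  intro c hcW
  obtain ⟨d, hdD, y, hy, rfl⟩ := Subgroup.mem_sup.1 hcW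
  obtain ⟨d1, hd1, d2, hd2, rfl⟩ := Subgroup.mem_sup.1 hdD
  have key : ∀ j, ∀ a ∈ part hF σ C.hyp (T.g j) (C.e j), cj σ k a ∈ Wsub hF T := fun j a ha => by
    obtain ⟨i, e, he, hkj⟩ := hmon j
    exact Subgroup.mem_sup_left (part_le_Dsub hF T hs hc i (cj_part hF T hs hc hk he hkj ha))
  rw [map_mul, map_mul, cj_fix hF hs hc k (prAb_Ysub hF T hs hc hy)]
  exact mul_mem (mul_mem (key 0 d1 hd1) (key 1 d2 hd2.1)) (Subgroup.mem_sup_right hy)

theorem cj_Wsub_extra {k : Nrm σ C.x} (hk : σ k = C.G0) :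
    ∀ c ∈ Wsub hF T, cj σ k c ∈ Wsub hF T := by
  intro c hcW
  obtain ⟨d, hdD, y, hy, rfl⟩ := Subgroup.mem_sup.1 hcW
  obtain ⟨d1, hd1, d2, hd2, rfl⟩ := Subgroup.mem_sup.1 hdD
  rw [map_mul, map_mul, cj_fix hF hs hc k (prAb_Ysub hF T hs hc hy)]
  refine mul_mem (mul_mem ?_ ?_) (Subgroup.mem_sup_right hy)
  · exact Subgroup.mem_sup_left (Subgroup.mem_sup_left (cj_part hF T hs hc (i := 0) (j := 0)
      (hk ▸ C.G0_mem) (one_pow 3) (by rw [hk, C.G0_fix, one_smul]) hd1))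
  · have h1 : cj σ k d2 = psi σ T.k0 d2 * d2 := by
      rw [cj_congr σ hc k T.k0 (hk.trans T.extra.symm), psi_apply, div_mul_cancel]
    rw [h1]
    exact mul_mem (Subgroup.mem_sup_right ⟨d2, hd2, rfl⟩)
      (Subgroup.mem_sup_left (Subgroup.mem_sup_right hd2))

theorem cj_Wsub [Finite Γ] {k : Nrm σ C.x} (hk : σ k ∈ stab2 C.x C.y) :
    ∀ c ∈ Wsub hF T, cj σ k c ∈ Wsub hF T := by
  haveI : Finite (SU 6 F 2) := Finite.of_surjective σ hs
  let M : Submonoid (SU 6 F 2) :=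
    { carrier := {g | g ∈ stab2 C.x C.y ∧
        ∀ k : Nrm σ C.x, σ k = g → ∀ c ∈ Wsub hF T, cj σ k c ∈ Wsub hF T}
      mul_mem' := by
        rintro a b ⟨ha, ha'⟩ ⟨hb, hb'⟩
        refine ⟨mul_mem ha hb, fun k hk c hcW => ?_⟩
        obtain ⟨a', rfl⟩ := hs a
        obtain ⟨b', rfl⟩ := hs b
        let A : Nrm σ C.x := ⟨a', comap_stab_le_Nrm hF σ C.x ha.1⟩
        let B : Nrm σ C.x := ⟨b', comap_stab_le_Nrm hF σ C.x hb.1⟩
        rw [cj_congr σ hc k (A * B) (by rw [hk, Subgroup.coe_mul, map_mul]), ← cj_cj]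
        exact ha' A rfl _ (hb' B rfl c hcW)
      one_mem' := ⟨one_mem _, fun k hk c hcW => by
        rw [cj_congr σ hc k 1 (by rw [hk, Subgroup.coe_one, map_one])]
        obtain ⟨b, rfl⟩ := QuotientGroup.mk_surjective c
        show cj σ 1 (Abelianization.of b) ∈ _
        rw [cj_of]
        have hcW' : Abelianization.of b ∈ Wsub hF T := hcW
        convert hcW' using 3
        simp⟩ }
  let H : Subgroup (SU 6 F 2) :=
    { M with
      inv_mem' := fun {g} hg => by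
        rw [show g⁻¹ = g ^ (orderOf g - 1) from inv_eq_of_mul_eq_one_right (by
          rw [← pow_succ', Nat.sub_add_cancel (orderOf_pos g), pow_orderOf_eq_one])]
        exact M.pow_mem hg _ }
  have h := C.gen H ⟨C.G0_mem, fun k hk => cj_Wsub_extra hF T hs hc hk⟩
    (fun g hg hmon => ⟨hg, fun k hk => cj_Wsub_mon hF T hs hc (hk ▸ hg) (hk ▸ hmon)⟩) hk
  exact h.2 k rfl

omit hF hs hc in
theorem ker_le_Qh {z : Γ} (hz : σ z = 1) : z ∈ Qh σ C.x := by
  rw [Subgroup.mem_comap, hz]; exact one_mem _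

omit T in
theorem of_ker_eq_one {z : Γ} (hz : σ z = 1)
    (h1 : Abelianization.of (⟨z, ker_le_Qh hz⟩ : Qh σ C.x) = 1) : z = 1 := by
  refine comm_disjoint hF σ hs hc C.hyp C.frame (Or.inl (by norm_num)) (Or.inl (by norm_num)) ?_ hz
  rw [← Subgroup.map_subtype_commutator]
  exact ⟨_, (Abelianization.ker_of (Qh σ C.x)).le h1, rfl⟩

/-- An element of two-power order of the kernel lying in the derived group has its class in the
defect. -/
theorem of_mem_Ysub [Finite Γ] {z : Γ} (hzc : z ∈ commutator Γ) (hz : σ z = 1) {j : ℕ}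
    (hzp : z ^ 2 ^ j = 1) :
    Abelianization.of (⟨z, ker_le_Qh hz⟩ : Qh σ C.x) ∈ Ysub hF T := by
  haveI : Fact (Nat.Prime 2) := ⟨Nat.prime_two⟩
  haveI : Finite (SU 6 F 2) := Finite.of_surjective σ hs
  have hm1 : 1 ≤ 4 := by norm_num
  let N : Subgroup Γ := ((Wsub hF T).comap Abelianization.of).map (Qh σ C.x).subtype
  let L : Subgroup Γ := (stab2 C.x C.y).comap σ
  have hNQ : N ≤ Qh σ C.x := Subgroup.map_subtype_le _
  have hcomm : ∀ a b : Qh σ C.x, ⁅a, b⁆ ∈ (Wsub hF T).comap Abelianization.of := fun a b => by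
    rw [Subgroup.mem_comap, map_commutatorElement, commutatorElement_eq_one_iff_commute.2
      (Commute.all _ _)]
    exact one_mem _
  have hnorm : L ≤ Subgroup.normalizer (N : Set Γ) := by
    have key : ∀ g' : Γ, σ g' ∈ stab2 C.x C.y → ∀ w ∈ N, g' * w * g'⁻¹ ∈ N := by
      rintro g' hg' _ ⟨a, ha, rfl⟩
      exact ⟨_, (show cj σ ⟨g', comap_stab_le_Nrm hF σ C.x hg'.1⟩ (Abelianization.of a) ∈ Wsub hF T
        from cj_Wsub hF T hs hc (k := ⟨g', _⟩) hg' _ ha), rfl⟩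
    intro g hg
    rw [Subgroup.mem_normalizer_iff]
    refine fun w => ⟨key g hg w, fun hw => ?_⟩
    have := key g⁻¹ (by rw [map_inv]; exact inv_mem hg) _ hw
    simpa [mul_assoc] using this
  have hrad : ∀ r ∈ H55.Psu.radU (q := 2) C.x, ∃ w ∈ N, σ w = r := by
    intro r hr
    obtain ⟨c, hcD, hcw⟩ := exists_Dsub hF T hs hc (pr_mem hF C.hyp (radU_le_stab C.x hr))
    obtain ⟨b, rfl⟩ := QuotientGroup.mk_surjective c
    obtain ⟨a, rfl⟩ := hs r
    obtain ⟨u, hu, v, hv, huv⟩ := exists_comm_of_pr_zero hF σ hs hc C.hyp C.frame hm1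
      (mul_mem (inv_mem b.2) hr) (pr_inv_mul hF σ C.hyp b.2 hr hcw)
    refine ⟨b * ⁅u, v⁆, ⟨b * ⁅(⟨u, hu⟩ : Qh σ C.x), (⟨v, hv⟩ : Qh σ C.x)⁆,
      mul_mem (Subgroup.mem_sup_left hcD : _ ∈ Wsub hF T) (hcomm _ _), rfl⟩, ?_⟩
    rw [map_mul, ← huv, map_mul, map_inv, mul_inv_cancel_left]
  have hle : (stab C.x).comap σ ≤ N ⊔ L := by
    intro g hg
    have h1 : σ g ∈ ((H55.Psu.radU C.x ⊔ stab2 C.x C.y : Subgroup (SU 6 F 2)) : Set _) := by
      rw [SetLike.mem_coe, ← (stab_eq_sup hF C.hyp).1]; exact hg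
    rw [Subgroup.coe_mul_of_right_le_normalizer_left _ _ (stab2_le_normalizer hF C.x C.y)] at h1
    obtain ⟨r, hr, s, hs', hrs⟩ := h1
    obtain ⟨w, hw, hwr⟩ := hrad r hr
    rw [show g = w * (w⁻¹ * g) by group]
    refine Subgroup.mul_mem_sup hw ?_
    show σ (w⁻¹ * g) ∈ stab2 C.x C.y
    rw [map_mul, map_inv, hwr, ← hrs]
    simpa using hs'
  have hz1 := mem_commutator_comap_pow σ hs hc C.idx hzc hz hzp
  have hz2 : z ∈ N ⊔ ⁅L, L⁆ := PPart.sup_commutator_le hnorm (Subgroup.commutator_mono hle hle hz1)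
  have hLL : ⁅L, L⁆ ≤ L := (Subgroup.commutator_le).2 fun a ha b hb =>
    mul_mem (mul_mem (mul_mem ha hb) (inv_mem ha)) (inv_mem hb)
  have hz3 : z ∈ ((N ⊔ ⁅L, L⁆ : Subgroup Γ) : Set Γ) := hz2
  rw [Subgroup.coe_mul_of_right_le_normalizer_left _ _ (hLL.trans hnorm)] at hz3
  obtain ⟨a, ha, w, hw, haw⟩ := hz3
  have h4 : σ a * σ w = 1 := by rw [← map_mul]; exact (congrArg σ haw).trans hz
  have ha1 : σ a = 1 := by
    have h5 : σ a ∈ H55.Psu.radU (q := 2) C.x ⊓ stab2 C.x C.y :=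
      ⟨hNQ ha, by rw [eq_inv_of_mul_eq_one_left h4]; exact Subgroup.inv_mem _ (hLL hw)⟩
    rw [(stab_eq_sup hF C.hyp).2] at h5
    exact Subgroup.mem_bot.1 h5
  rw [ha1, one_mul] at h4
  have hw1 : w = 1 := stab2_comm_disjoint hF σ hs hc C.hyp hw h4
  subst hw1
  simp only [mul_one] at haw
  subst haw
  obtain ⟨b, hb, hba⟩ := ha
  obtain ⟨d, hd, y, hy, hdy⟩ := Subgroup.mem_sup.1 (show Abelianization.of b ∈ Wsub hF T from hb)
  have hb0 : P̄ (Abelianization.of b) = 0 := by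
    show pr C.x C.y (σ b) = 0
    rw [show (b : Γ) = a from hba, ha1, pr_one hF C.hyp]
  have hd0 : P̄ d = 0 := by
    have hy0 := prAb_Ysub hF T hs hc hy
    rw [← hdy] at hb0
    simp only [map_mul, toAdd_mul] at hb0 hy0 ⊢
    rwa [hy0, add_zero] at hb0
  rw [eq_one_of_mem_Dsub hF T hs hc hd hd0, one_mul] at hdy
  rw [show (⟨a, ker_le_Qh hz⟩ : Qh σ C.x) = b from Subtype.ext hba.symm, ← hdy]
  exact hy

theorem sq_Lsub {c : Abelianization (Qh σ C.x)} (hcL : c ∈ Lsub hF T) : c ^ 2 = 1 := by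
  refine eq_of_mem_Lsub hF T hs hc (pow_mem hcL 2) (one_mem _) ?_
  show Multiplicative.toAdd (prAb hF σ C.hyp (c ^ 2)) = Multiplicative.toAdd (prAb hF σ C.hyp 1)
  rw [map_pow, map_one, pow_two, toAdd_mul, toAdd_one]
  funext i
  exact add_self_zero hF _

theorem card_Lsub_le : Nat.card (Lsub hF T) ≤ 4 := by
  have h : Function.Injective fun c : Lsub hF T => hermForm 6 F 2 (P̄ c.1) (C.e 0) := by
    intro c c' he
    refine Subtype.ext (eq_of_mem_Lsub hF T hs hc c.2 c'.2 ?_)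
    obtain ⟨r, hr⟩ := Submodule.mem_span_singleton.1
      (show P̄ c.1 ∈ Submodule.span F {C.e 0} from c.2.2)
    obtain ⟨r', hr'⟩ := Submodule.mem_span_singleton.1
      (show P̄ c'.1 ∈ Submodule.span F {C.e 0} from c'.2.2)
    have e1 : r = r' := by
      simpa only [← hr, ← hr', h_smul_left, C.frame.on _ _, if_pos, mul_one] using he
    rw [← hr, ← hr', e1]
  refine (Nat.card_le_card_of_injective _ h).trans ?_
  rw [Nat.card_eq_fintype_card, hF]
  norm_num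

end H51.U62
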